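import Groth.Agent.KRRReg.Main
import Groth.Agent.S3572
import Groth.Agent.S3573
import Groth.Agent.GrassSch.Exists
import Groth.Agent.H23.Frame
import Groth.Agent.FTDescent.Basic
import Groth.Agent.H9Twist.Lcm
import Groth.Agent.KFlatLib.Scheme.ProjLocFree
import Groth.Agent.KRRReg.GammaPush
import Groth.Agent.Lib.CurveDualPrep

/-!
# Projective space over a base is the projective bundle of a free module
-/

set_option autoImplicit false
set_option linter.style.haveILetI false
set_option linter.unusedSectionVars false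
set_option backward.isDefEq.respectTransparency false
set_option backward.isDefEq.respectTransparency.types false
set_option maxHeartbeats 1000000

universe u

open CategoryTheory CategoryTheory.Limits AlgebraicGeometry TopologicalSpace Opposite

attribute [-instance] CategoryTheory.catToReflQuiver

noncomputable section

namespace Groth.Agent.KPB

open Groth.Agent Groth.Agent.QuotRep Groth.Agent.H23.PicMul KRRReg

/-- An epimorphism from a free module gives generating sections. -/
theorem generatedBy_of_epi {X : Scheme.{u}} {N : ℕ} {L : X.Modules} (hL : Coh.IsQCoh L)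
    (v : Fin N → Γ(L, (⊤ : X.Opens))) [Epi (secHom v)] : ProjUP.GeneratedBy L v := by
  intro x
  refine eq_top_iff.2 fun z _ => ?_
  obtain ⟨U, hxU, s, rfl⟩ := TopCat.Presheaf.exists_germ_eq L.presheaf z
  obtain ⟨W, hW, hxW, hWU⟩ := exists_isAffineOpen_mem_and_subset hxU
  obtain ⟨w, hw⟩ := QCoh.app_surjective_of_epi
    (QCoh.isQCoh_of_isFinLocFree (KFlatLib.isFinLocFree_freeMod N)) hL (secHom v) hW
    (L.presheaf.map (homOfLE hWU).op s)
  rw [← TopCat.Presheaf.germ_res_apply L.presheaf (homOfLE hWU) x hxW s]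
  refine (congrArg (fun z => (L.presheaf.germ W x hxW) z ∈ _) hw).mp ?_
  rw [← H23.Frame.free_eq_sum W w, map_sum, map_sum]
  refine Submodule.sum_mem _ fun i _ => ?_
  refine FTDescent.germ_mem_span' hxW (fun _ : Unit => L.presheaf.map (homOfLE (le_top : W ≤ ⊤)).op (v i)) _
    (fun _ => ?_) _ ?_
  · rw [FTDescent.germ_res']
    exact Submodule.subset_span ⟨i, rfl⟩
  · rw [Scheme.Modules.Hom.app_smul]
    refine Submodule.smul_mem _ _ (Submodule.subset_span ⟨(), ?_⟩)
    refine Eq.trans (congrArg _ (secHom_basis_apply v i).symm) ?_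
    exact H23.Frame.app_one_res (H23.Frame.incl X N i ≫ secHom v) le_top

variable (n : ℕ) (S : Scheme.{u})

/-- The twisting sheaf. -/
abbrev O1P : (KRR.PY n S).Modules := O (gfst n S) 1

/-- The coordinates. -/
def coordP (i : Fin (n + 1)) : Γ(O1P n S, (⊤ : (KRR.PY n S).Opens)) :=
  pullTop (gfst n S) (Twist.twistProjSpace n Zu.{u} 1) (ProjUP.coord n Zu.{u} i)

theorem isInvertible_O1P : PicF.IsInvertible (O1P n S) :=
  PicClLib.isInvertible_pullback _ (TwistFlat.isInvertible_twistProjSpace n 1)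

theorem generatedBy_coord : ProjUP.GeneratedBy (Twist.twistProjSpace n Zu.{u} 1) (ProjUP.coord n Zu.{u}) :=
  ProjUPX.generatedBy_of_frames _ fun x => by
    obtain ⟨i, hi⟩ := Opens.mem_iSup.1 ((Proj.iSup_basicOpen_eq_top (CohB1.polyGrading n Zu.{u})
      (fun i : Fin (n + 1) => MvPolynomial.X i) (SegreX.irrelevant_le_span n Zu.{u})).ge (Set.mem_univ x))
    exact ⟨i, _, hi, ProjUPX.isFrame_sec (CohB1.polyGrading n Zu.{u}) (MvPolynomial.isHomogeneous_X Zu.{u} i)⟩

theorem epi_coordP : Epi (secHom (coordP n S)) := by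
  haveI : Epi (secHom (ProjUP.coord n Zu.{u})) :=
    InvX.epi_of_generated (generatedBy_coord n) _ (fun i => H23.Frame.incl _ _ i) fun i =>
      secHom_basis_apply _ i
  exact epi_pullSec _ _

/-- `P^n_S` is the projective bundle of the free module of rank `n + 1`. -/
theorem exists_isGrass_pr : ∃ q : (Scheme.Modules.pullback (KRR.pr n S)).obj (FlatMod.freeMod S (n + 1)) ⟶ O1P n S,
    Grass.IsGrass (KRR.pr n S) (FlatMod.freeMod S (n + 1)) 1 (O1P n S) q := by
  refine GrassSch.exists_q_isGrass (KRR.pr n S) (coordP n S) (InvEnd.isFinLocFreeOfRank_one (isInvertible_O1P n S))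
    (epi_coordP n S) fun T s L hL v hv => ?_
  haveI := hv
  have hLi : PicF.IsInvertible L := BertiniSec.isInvertible_of_rank_one hL
  have hgen := generatedBy_of_epi (ProjUPX.isQCoh_of_isInvertible hLi) v
  have hex : ∃ h : T ⟶ KRR.PY n S, h ≫ KRR.pr n S = s ∧
      ∃ τ : (Scheme.Modules.pullback (h ≫ gfst n S)).obj (Twist.twistProjSpace n Zu.{u} 1) ≅ L,
        ∀ i, τ.hom.app ⊤ (pullTop (h ≫ gfst n S) _ (ProjUP.coord n Zu.{u} i)) = v i := by
    obtain ⟨g, hg, τ, hτ⟩ := Groth.Agent.S3572.result n (specULiftZIsTerminal.from T) L hLi v hgen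
    have hw : g ≫ CohB1.ProjSpace.toSpec n Zu.{u} = s ≫ specULiftZIsTerminal.from S :=
      specULiftZIsTerminal.hom_ext _ _
    obtain ⟨h, hh, rfl⟩ : ∃ h : T ⟶ KRR.PY n S, h ≫ KRR.pr n S = s ∧ h ≫ gfst n S = g :=
      ⟨pullback.lift g s hw, pullback.lift_snd _ _ _, pullback.lift_fst _ _ _⟩
    refine ⟨h, hh, τ, fun i => ?_⟩
    rw [pullTop_eq_unit]
    exact hτ i
  obtain ⟨h, hh, τ, hτ⟩ := hex
  refine ⟨h, ⟨hh, (Scheme.Modules.pullbackComp h (gfst n S)).hom.app _ ≫ τ.hom, fun l => ?_⟩, ?_⟩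
  · show τ.hom.app ⊤ (((Scheme.Modules.pullbackComp h (gfst n S)).hom.app _).app ⊤ (pullTop h _ (coordP n S l))) = v l
    rw [coordP, QuotRep.pullTop_comp]
    exact hτ l
  · rintro h' ⟨hh', φ, hφ⟩
    haveI : Epi φ := by
      haveI : Epi ((secHom fun l => pullTop h' _ (coordP n S l)) ≫ φ) := by
        rw [secHom_comp, show (fun l => φ.app ⊤ (pullTop h' _ (coordP n S l))) = v from funext hφ]
        infer_instance
      exact epi_of_epi (secHom fun l => pullTop h' _ (coordP n S l)) φ
    haveI := QuotRep.isIso_of_epi_rank (KRRReg.isFinLocFreeOfRank_pullback h'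
      (InvEnd.isFinLocFreeOfRank_one (isInvertible_O1P n S))) hL φ
    let c := (Scheme.Modules.pullbackComp h' (gfst n S)).app (Twist.twistProjSpace n Zu.{u} 1)
    have key : h' ≫ gfst n S = h ≫ gfst n S := by
      refine Groth.Agent.S3573.result n _ _ (specULiftZIsTerminal.hom_ext _ _) (c.symm ≪≫ asIso φ ≪≫ τ.symm) fun i => ?_
      refine Eq.trans (congrArg _ (pullTop_eq_unit (h' ≫ gfst n S) _ _).symm)
        (Eq.trans ?_ (pullTop_eq_unit (h ≫ gfst n S) _ _))
      have h1 : c.inv.app ⊤ (pullTop (h' ≫ gfst n S) _ (ProjUP.coord n Zu.{u} i)) = pullTop h' _ (coordP n S i) := by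
        rw [← QuotRep.pullTop_comp h' (gfst n S)]
        exact congr(($(c.hom_inv_id)).app ⊤ (pullTop h' _ (coordP n S i)))
      refine (congrArg (fun z => τ.inv.app ⊤ (φ.app ⊤ z)) h1).trans ?_
      rw [hφ i, ← hτ i]
      exact congr(($(τ.hom_inv_id)).app ⊤ (pullTop (h ≫ gfst n S) _ (ProjUP.coord n Zu.{u} i)))
    exact pullback.hom_ext key (hh'.trans hh.symm)

end Groth.Agent.KPB
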