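import Groth.Agent.KPB.Split
import Groth.Agent.KPB.PnUniv
import Groth.Agent.Lambda.AdamsRRMain
import Groth.Agent.KRRReg.GammaPush
import Groth.Agent.GGTriv.Basic
import Groth.Agent.Lambda.Series
import Groth.Agent.S3788

/-!
# Adams operations and the push-forward from projective space
-/

set_option autoImplicit false
set_option linter.style.haveILetI false
set_option linter.unusedSectionVars false
set_option backward.isDefEq.respectTransparency false
set_option backward.isDefEq.respectTransparency.types false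
set_option maxHeartbeats 1000000

universe v w u

open CategoryTheory CategoryTheory.Limits AlgebraicGeometry
open scoped TensorProduct

attribute [-instance] CategoryTheory.catToReflQuiver

noncomputable section

namespace Groth.Agent.KPB

open Groth.Agent LambdaRing

section Transport

variable {A : Type v} {B : Type w} [CommRing A] [CommRing B]

/-- λ-operations transported along a ring isomorphism. -/
@[reducible] def pullOps [LambdaOps B] (Φ : A ≃+* B) : LambdaOps A where
  lam i x := Φ.symm (LambdaOps.lam i (Φ x))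
  lam_zero x := by simp [LambdaOps.lam_zero]
  lam_one x := by simp [LambdaOps.lam_one]
  lam_add k x y := by simp [LambdaOps.lam_add, map_sum, map_mul]

/-- The transported positive structure. -/
def pullPos [LambdaOps B] (Φ : A ≃+* B) (P : PosStructure B) :
    @PosStructure A _ (pullOps Φ) :=
  letI := pullOps Φ
  { aug := P.aug.comp Φ.toRingHom
    aug_surjective := P.aug_surjective.comp Φ.surjective
    pos := Φ ⁻¹' P.pos
    add_mem := fun e f he hf => by simpa using P.add_mem _ _ he hf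
    mul_mem := fun e f he hf => by simpa using P.mul_mem _ _ he hf
    natCast_mem := fun n hn => by simpa using P.natCast_mem n hn
    exists_sub := fun x => by
      obtain ⟨e, f, he, hf, h⟩ := P.exists_sub (Φ x)
      exact ⟨Φ.symm e, Φ.symm f, by simpa using he, by simpa using hf, Φ.injective (by simpa using h)⟩
    aug_pos := fun e he => P.aug_pos _ he
    lam_eq_zero := fun e he i hi => by
      show Φ.symm (LambdaOps.lam i (Φ e)) = 0
      rw [P.lam_eq_zero _ he i hi, map_zero]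
    isUnit_lam := fun e he => (P.isUnit_lam _ he).map Φ.symm.toRingHom }

variable {A' : Type v} [CommRing A'] [LambdaOps A'] {P' : PosStructure A'}

theorem hasSplitting_pull (Φ : A ≃+* A') (h : HasSplitting A' P') :
    @HasSplitting A _ (pullOps Φ) (pullPos Φ P') := by
  letI := pullOps Φ
  obtain ⟨C, hmem, hC⟩ := h
  refine ⟨insert ⟨A, pullPos Φ P'⟩ C, Set.mem_insert _ _, ?_⟩
  rintro L (rfl | hL) e he
  · obtain ⟨L', hL', f, hf, s, hs, hsum⟩ := hC ⟨A', P'⟩ hmem (Φ e) he
    refine ⟨L', Set.mem_insert_of_mem _ hL', f.comp Φ.toRingHom, ⟨fun i x => ?_, hf.injective.comp Φ.injective,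
      fun x => hf.aug_comp _, fun x hx => hf.pos_subset _ hx⟩, s, hs, hsum⟩
    show f (Φ (Φ.symm (LambdaOps.lam i (Φ x)))) = _
    rw [Φ.apply_symm_apply]
    exact hf.isLambdaHom i (Φ x)
  · obtain ⟨L', hL', r⟩ := hC L hL e he
    exact ⟨L', Set.mem_insert_of_mem _ hL', r⟩

/-- Adams operations commute with λ-homomorphisms. -/
theorem map_adams_hom [LambdaOps A] [LambdaOps B] {P : PosStructure A} {Q : PosStructure B} (f : A →+* B)
    (hlam : ∀ i x, f (LambdaOps.lam i x) = LambdaOps.lam i (f x)) (haug : ∀ x, Q.aug (f x) = P.aug x) (j : ℕ)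
    (x : A) : f (adams P j x) = adams Q j (f x) := by
  have hU : PowerSeries.map f (PowerSeries.rescale (-1 : A) (lamSeries x)) =
      PowerSeries.rescale (-1 : B) (lamSeries (f x)) := by
    ext i
    simp [lamSeries, PowerSeries.coeff_rescale, hlam]
  have hinv : PowerSeries.map f ((PowerSeries.rescale (-1 : A) (lamSeries x)).invOfUnit 1) =
      (PowerSeries.rescale (-1 : B) (lamSeries (f x))).invOfUnit 1 := by
    refine left_inv_eq_right_inv (a := PowerSeries.rescale (-1 : B) (lamSeries (f x))) ?_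
      (PowerSeries.mul_invOfUnit _ _ (by simp [← PowerSeries.coeff_zero_eq_constantCoeff, PowerSeries.coeff_rescale, lamSeries, LambdaOps.lam_zero]))
    rw [← hU, ← map_mul, mul_comm, PowerSeries.mul_invOfUnit _ _ (by simp [← PowerSeries.coeff_zero_eq_constantCoeff, PowerSeries.coeff_rescale, lamSeries, LambdaOps.lam_zero]), map_one]
  have hD : PowerSeries.map f (PowerSeries.derivative A (PowerSeries.rescale (-1 : A) (lamSeries x))) =
      PowerSeries.derivative B (PowerSeries.rescale (-1 : B) (lamSeries (f x))) := by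
    ext i
    simp [← hU, PowerSeries.coeff_derivative]
  rw [adams, adams, ← PowerSeries.coeff_map, adamsSeries, adamsSeries, map_sub, map_mul, map_mul,
    PowerSeries.map_C, PowerSeries.map_X, map_intCast, haug, hinv, hD]

/-- Bott classes commute with λ-homomorphisms. -/
theorem map_bott_hom [LambdaOps A] [LambdaOps B] {P : PosStructure A} {Q : PosStructure B} (f : A →+* B)
    (hlam : ∀ i x, f (LambdaOps.lam i x) = LambdaOps.lam i (f x)) (haug : ∀ x, Q.aug (f x) = P.aug x) (j : ℕ)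
    (x : A) : f (KRR.bott P j x) = KRR.bott Q j (f x) := by
  have key : ∀ (m : ℕ) (p : MvPolynomial (Fin m) ℤ),
      f (MvPolynomial.aeval (fun i : Fin m => LambdaOps.lam (i.1 + 1) x) p) =
        MvPolynomial.aeval (fun i : Fin m => LambdaOps.lam (i.1 + 1) (f x)) p := fun m p => by
    refine ((MvPolynomial.comp_aeval_apply (fun i : Fin m => LambdaOps.lam (i.1 + 1) x) f.toIntAlgHom p)).trans ?_
    simp only [RingHom.toIntAlgHom_apply, hlam]
  unfold KRR.bott
  rw [haug x]
  exact key _ _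

end Transport

/-- The class of `O(-1)^{n+1}`. -/
def qCl (n : ℕ) {Y : Scheme.{u}} {KP : Type v} [CommRing KP] (φP : SGA6.Kvb (KRR.PY n Y) →+ KP) : KP :=
  φP (KRR.cl (KRR.PY n Y) (KRR.twF n Y (-1) ((Scheme.Modules.pullback (KRR.pr n Y)).obj (FlatMod.freeMod Y (n + 1)))))

section Core

variable (n : ℕ) {Y : Scheme.{u}} [IsNoetherian Y] [ConnectedSpace ↥Y]
  {KP : Type (u + 1)} [CommRing KP] [LambdaOps KP] {PP : PosStructure KP}
  {φP : SGA6.Kvb (KRR.PY n Y) →+ KP}
  {KY : Type (u + 1)} [CommRing KY] [LambdaOps KY] {PY : PosStructure KY}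
  {φY : SGA6.Kvb Y →+ KY}

variable (hKP : KRR.IsModel (KRR.PY n Y) KP PP φP) (hKY : KRR.IsModel Y KY PY φY)

include hKP hKY in
theorem adams_push_core {g : KP →+ KY} (hg : KRR.IsPushPr n Y φP φY g) {j : ℕ} (hj : 1 ≤ j)
    (R : Type) [CommRing R] [Module.Flat ℤ R] (hjR : IsUnit (j : R)) :
    (∃ w : R ⊗[ℤ] KP, w * ((1 : R) ⊗ₜ[ℤ] KRR.bott PP j (qCl n φP)) = 1) ∧
    ∀ w : R ⊗[ℤ] KP, w * ((1 : R) ⊗ₜ[ℤ] KRR.bott PP j (qCl n φP)) = 1 → ∀ z : KP,
    (1 : R) ⊗ₜ[ℤ] adams PY j (g z) =
      LinearMap.lTensor R g.toIntLinearMap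
        ((j : R ⊗[ℤ] KP) * ((1 : R) ⊗ₜ[ℤ] adams PP j z) * w) := by
  -- the bundle
  obtain ⟨q₀, hG⟩ := exists_isGrass_pr n Y
  have hB := hG.isProjBundle
  have hfree : FlatMod.IsFinLocFreeOfRank (n + 1) (FlatMod.freeMod Y (n + 1)) :=
    GGTriv.isFinLocFreeOfRank_freeMod (n + 1)
  obtain ⟨_, _⟩ := isNoetherian_connected hB hfree
  obtain ⟨q, hq, -⟩ := KRRReg.existsUnique_isPull (KRR.pr n Y) φP hKY.bijective
  have hbij := bijective_powers hfree hB hKY hKP hq
  let G : KY →+* KP := KRRReg.pullRingHom hKP hKY hq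
  have hGlam : ∀ i x, G (LambdaOps.lam i x) = LambdaOps.lam i (G x) := KRRReg.pull_lam hKP hKY hq
  have hGaug : ∀ x, PP.aug (G x) = PY.aug x := KRRReg.pull_aug hKP hKY hq
  let l : KP := φP (KRR.cl (KRR.PY n Y) (O1P n Y))
  have hlO : ∀ m : ℤ, φP (KRR.cl _ (KRRReg.Ot n Y m)) = φP (KRR.cl _ (KRRReg.O (KRRReg.gfst n Y) m)) := fun m =>
    congrArg φP (KRRReg.cl_iso (KRRReg.twF_structure_iso Y m).some (KRRReg.isFinLocFree_twF_structure Y m))
  have hlpow : ∀ m : ℕ, φP (KRR.cl _ (KRRReg.Ot n Y (m : ℤ))) = l ^ m := fun m => by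
    rw [KRRReg.phi_Ot_pow hKP m, hlO 1]
  let linv : KP := φP (KRR.cl _ (KRRReg.Ot n Y (-1)))
  have hlinv : linv * l = 1 := by
    show φP (KRR.cl _ (KRRReg.Ot n Y (-1))) * φP (KRR.cl _ (O1P n Y)) = 1
    rw [show O1P n Y = KRRReg.O (KRRReg.gfst n Y) 1 from rfl, ← hlO 1, ← KRRReg.phi_Ot_add hKP,
      show (-1 : ℤ) + 1 = 0 by norm_num, KRRReg.phi_Ot_zero hKP]
  have hlline : PP.IsLine l :=
    ⟨(hKP.mem_pos_iff l).2 ⟨1, O1P n Y, le_rfl, hB.invertible, rfl⟩, by
      rw [hKP.aug_cl 1 _ hB.invertible]; rfl⟩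
  -- the trivial class
  let e : KY := ((n + 1 : ℕ) : KY)
  have he : e ∈ PY.pos := PY.natCast_mem _ n.succ_pos
  have hr : PY.aug e = (n : ℤ) + 1 := by simp [e]
  have hfreeCl : φY (KRR.cl Y (FlatMod.freeMod Y (n + 1))) = e := by
    rw [KRRReg.cl_freeMod, map_nsmul, hKY.map_one, nsmul_one]
  have hqe : qCl n φP = G e * linv := by
    have hp := KFlatLib.isFinLocFree_pullback (KRR.pr n Y) (ExtPowSh.flf_of_rank hfree)
    rw [qCl, KRRReg.phi_twF hKP (-1) hp, ← hq _ (ExtPowSh.flf_of_rank hfree), hfreeCl, mul_comm]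
    rfl
  -- the tautological relation
  have hrel : (KRR.extPoly PY e).eval₂ G l = 0 := by
    have h := Groth.Agent.S3788.result Y (KRR.PY n Y) n (FlatMod.freeMod Y (n + 1)) hfree (KRR.pr n Y) (O1P n Y) q₀ hB
      KY PY φY hKY KP PP φP hKP q hq
    rw [KRR.extPoly, Polynomial.eval₂_finsetSum, show (PY.aug e).toNat = n + 1 by omega]
    refine Eq.trans (Finset.sum_congr rfl fun i _ => ?_) h
    rw [Polynomial.eval₂_mul, Polynomial.eval₂_C, Polynomial.eval₂_X_pow, map_mul, map_pow, map_neg, map_one,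
      hfreeCl]
    rfl
  let Φ₀ : AdjoinRoot (KRR.extPoly PY e) →+* KP := AdjoinRoot.lift G l hrel
  have hΦof : ∀ c, Φ₀ (AdjoinRoot.of _ c) = G c := fun c => AdjoinRoot.lift_of hrel
  have hΦroot : Φ₀ (AdjoinRoot.root _) = l := AdjoinRoot.lift_root hrel
  have hd := Lambda.monic_extPoly_natDegree PY e
  rw [show (PY.aug e).toNat = n + 1 by omega] at hd
  have hΦsum : ∀ c : ℕ → KY, Φ₀ (∑ i ∈ Finset.range (n + 1), AdjoinRoot.of _ (c i) * AdjoinRoot.root _ ^ i) =
      ∑ i : Fin (n + 1), q (c i) * l ^ (i : ℕ) := fun c => by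
    rw [map_sum, ← Fin.sum_univ_eq_sum_range (fun i => Φ₀ (AdjoinRoot.of _ (c i) * AdjoinRoot.root _ ^ i))]
    refine Finset.sum_congr rfl fun i _ => ?_
    rw [map_mul, map_pow, hΦof, hΦroot]
    rfl
  have hΦbij : Function.Bijective Φ₀ := by
    refine ⟨fun x y hxy => ?_, fun z => ?_⟩
    · obtain ⟨a, rfl⟩ := Lambda.exists_coeffs hd.1 hd.2 x
      obtain ⟨b, rfl⟩ := Lambda.exists_coeffs hd.1 hd.2 y
      rw [hΦsum, hΦsum] at hxy
      have h := hbij.1 (a₁ := fun i => a i) (a₂ := fun i => b i) hxy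
      refine Finset.sum_congr rfl fun i hi => ?_
      rw [show a i = b i from congrFun h ⟨i, Finset.mem_range.1 hi⟩]
    · obtain ⟨a, ha⟩ := hbij.2 z
      refine ⟨_, (hΦsum fun i => if h : i < n + 1 then a ⟨i, h⟩ else 0).trans (Eq.trans ?_ ha)⟩
      exact Finset.sum_congr rfl fun i _ => by rw [dif_pos i.2]
  let Φ := RingEquiv.ofBijective Φ₀ hΦbij
  letI inst := pullOps Φ
  let Pe := pullPos Φ PP
  have hGinj : Function.Injective G := fun a b hab => by
    have h := hbij.1 (a₁ := fun i => if i = 0 then a else 0) (a₂ := fun i => if i = 0 then b else 0) (by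
      show ∑ i : Fin (n + 1), q (if i = 0 then a else 0) * _ = ∑ i : Fin (n + 1), q (if i = 0 then b else 0) * _
      rw [Finset.sum_eq_single 0 (fun i _ hi => by rw [if_neg hi, map_zero, zero_mul]) (by simp),
        Finset.sum_eq_single 0 (fun i _ hi => by rw [if_neg hi, map_zero, zero_mul]) (by simp)]
      simp [show q a = q b from hab])
    simpa using congrFun h 0
  have hext0 := isExtension_pull hKY hKP hq hGinj
  have hext : IsExtension PY Pe (AdjoinRoot.of (KRR.extPoly PY e)) :=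
    { isLambdaHom := fun i x => Φ.injective (by
        show Φ₀ (AdjoinRoot.of _ (LambdaOps.lam i x)) = Φ (Φ.symm (LambdaOps.lam i (Φ₀ (AdjoinRoot.of _ x))))
        rw [Φ.apply_symm_apply, hΦof, hΦof]
        exact hGlam i x)
      injective := fun a b hab => hGinj (by rw [← hΦof, ← hΦof, hab])
      aug_comp := fun x => (congrArg PP.aug (hΦof x)).trans (hGaug x)
      pos_subset := fun x hx => by
        show Φ₀ (AdjoinRoot.of _ x) ∈ PP.pos
        rw [hΦof]
        exact hext0.pos_subset x hx }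
  have hline : Pe.IsLine (AdjoinRoot.root (KRR.extPoly PY e)) :=
    ⟨show Φ₀ _ ∈ PP.pos by rw [hΦroot]; exact hlline.1,
      show PP.aug (Φ₀ _) = 1 by rw [hΦroot]; exact hlline.2⟩
  have hsY := hasSplitting_model hKY
  have hsP := hasSplitting_pull Φ (hasSplitting_model hKP)
  let le : AdjoinRoot (KRR.extPoly PY e) := Φ.symm linv
  have hle : le * AdjoinRoot.root _ = 1 := Φ.injective (by
    rw [map_mul, map_one, Φ.apply_symm_apply]
    rw [show Φ (AdjoinRoot.root _) = l from hΦroot, hlinv])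
  have hbott : Φ (KRR.bott Pe j (AdjoinRoot.of _ e * le)) = KRR.bott PP j (qCl n φP) := by
    refine (map_bott_hom (P := Pe) (Q := PP) Φ.toRingHom (fun i x => Φ.apply_symm_apply _) (fun x => rfl) j _).trans ?_
    congr 1
    show Φ (AdjoinRoot.of _ e * Φ.symm linv) = _
    rw [map_mul, Φ.apply_symm_apply, hqe]
    exact congrArg (· * linv) (hΦof e)
  -- the functional
  have hR := KRRReg.toRingModel hKY
  have hlin : ∀ (y : KY) (x : KP), g (G y * x) = y * g x := fun y x => by
    rw [mul_comm, mul_comm y]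
    exact KRRReg.pushPr_mul_pull (KRRReg.toRingModel hKP) hR hg hq x y
  let f : AdjoinRoot (KRR.extPoly PY e) →ₗ[KY] KY :=
    { toFun := fun x => g (Φ x)
      map_add' := fun a b => by rw [map_add, map_add]
      map_smul' := fun c x => by
        rw [Algebra.smul_def, AdjoinRoot.algebraMap_eq, map_mul, RingHom.id_apply, smul_eq_mul]
        exact (congrArg (fun t => g (t * Φ x)) (hΦof c)).trans (hlin c (Φ x)) }
  have hf : ∀ i : ℕ, i ≤ n → f (AdjoinRoot.root _ ^ i) = KRR.sigma i e := fun i _ => by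
    show g (Φ₀ (AdjoinRoot.root _ ^ i)) = _
    rw [map_pow, hΦroot, ← hlpow, KRRReg.push_class_nonneg Y hR hg i]
    have hser : KRR.sigmaSeries e = PowerSeries.mk fun k => ((n + k).choose n : KY) := by
      have h1 : ∀ m : ℕ, 2 ≤ m → LambdaOps.lam m (1 : KY) = 0 := fun m hm =>
        PY.lam_eq_zero 1 (by simpa using PY.natCast_mem 1 one_pos) m (by rw [map_one]; exact_mod_cast hm)
      have hneg : PowerSeries.rescale (-1 : KY) (lamSeries e) = (1 - PowerSeries.X) ^ (n + 1) := by
        rw [Lambda.lamSeries_natCast h1, map_pow, map_add, map_one, PowerSeries.rescale_neg_one_X, ← sub_eq_add_neg]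
      refine left_inv_eq_right_inv (a := PowerSeries.rescale (-1 : KY) (lamSeries e)) ?_ ?_
      · rw [KRR.sigmaSeries, mul_comm]
        exact PowerSeries.mul_invOfUnit _ _ (by simp [← PowerSeries.coeff_zero_eq_constantCoeff, PowerSeries.coeff_rescale, lamSeries, LambdaOps.lam_zero])
      · rw [hneg, mul_comm]
        exact PowerSeries.mk_add_choose_mul_one_sub_pow_eq_one KY n
    rw [KRR.sigma, hser, PowerSeries.coeff_mk, Nat.choose_symm_add]
  let T : R ⊗[ℤ] AdjoinRoot (KRR.extPoly PY e) →+* R ⊗[ℤ] KP :=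
    Lambda.liftR (Lambda.incL R KP) ((Lambda.incR R KP).comp Φ.toRingHom)
  let T' : R ⊗[ℤ] KP →+* R ⊗[ℤ] AdjoinRoot (KRR.extPoly PY e) :=
    Lambda.liftR (Lambda.incL R _) ((Lambda.incR R _).comp Φ.symm.toRingHom)
  have hT : ∀ (a : R) x, T (a ⊗ₜ[ℤ] x) = a ⊗ₜ[ℤ] Φ x := fun a x =>
    (Lambda.liftR_tmul _ _ a x).trans (Lambda.incL_mul_incR R KP a (Φ x))
  have hT' : ∀ (a : R) x, T' (a ⊗ₜ[ℤ] x) = a ⊗ₜ[ℤ] Φ.symm x := fun a x =>
    (Lambda.liftR_tmul _ _ a x).trans (Lambda.incL_mul_incR R _ a (Φ.symm x))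
  refine ⟨?_, fun w hw z => ?_⟩
  · obtain ⟨N, hN⟩ : IsNilpotent (KRR.bott PP j (qCl n φP) - ((j ^ (n + 1) : ℕ) : KP)) := by
      have h1 : ∀ m : ℕ, 2 ≤ m → LambdaOps.lam m (1 : KY) = 0 := fun m hm =>
        PY.lam_eq_zero 1 (by simpa using PY.natCast_mem 1 one_pos) m (by rw [map_one]; exact_mod_cast hm)
      have hb : Φ₀ (KRR.bott Pe j (AdjoinRoot.of _ e * le)) = Lambda.qS j linv ^ (n + 1) := by
        rw [Lambda.map_bott Φ₀ Pe j _ (fun _ : Fin (n + 1) => linv)
          (Lambda.aug_of_mul_linv hext hline hsP le hle hr), Finset.prod_const, Finset.card_univ, Fintype.card_fin]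
        intro k
        rw [Lambda.lam_of_mul_linv hext hline hsP le hle, map_mul, map_pow, hΦof, Lambda.lam_natCast h1, map_natCast,
          show Φ₀ le = linv from Φ.apply_symm_apply linv, Finset.esymm_map_val]
        rw [Finset.sum_congr rfl fun t ht => show (∏ _a ∈ t, linv) = linv ^ k by
          rw [Finset.prod_const, (Finset.mem_powersetCard.1 ht).2]]
        simp
      have hv : IsNilpotent (linv - 1) := by
        refine ⟨n + 1, ?_⟩
        have hp : ((KRR.extPoly PY e).map G) = (Polynomial.X - Polynomial.C 1) ^ (n + 1) := by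
          rw [Lambda.map_extPoly G (fun _ : Fin (n + 1) => (1 : KP)) (by omega)
            (fun k => by rw [Lambda.lam_natCast h1, map_natCast, Finset.esymm_map_val]; simp), Lambda.splitPoly,
            Finset.prod_const, Finset.card_univ, Fintype.card_fin]
        have h0 : (l - 1) ^ (n + 1) = 0 := by
          have h := hrel
          rw [← Polynomial.eval_map, hp] at h
          simpa using h
        rw [show linv - 1 = -linv * (l - 1) by rw [mul_sub, neg_mul, hlinv]; ring, mul_pow, h0, mul_zero]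
      rw [← hbott]
      show IsNilpotent (Φ₀ _ - _)
      rw [hb, Nat.cast_pow]
      obtain ⟨c, hc⟩ : (Lambda.qS j linv - (j : KP)) ∣ Lambda.qS j linv ^ (n + 1) - (j : KP) ^ (n + 1) :=
        (sub_dvd_pow_sub_pow _ _ (n + 1))
      rw [hc]
      refine Commute.isNilpotent_mul_right (Commute.all _ _) ?_
      rw [show (Lambda.qS j linv - (j : KP)) = ∑ k ∈ Finset.range j, (linv ^ k - 1) by
        simp [Lambda.qS, Finset.sum_sub_distrib]]
      refine isNilpotent_sum fun k _ => ?_
      obtain ⟨d, hd'⟩ : linv - 1 ∣ linv ^ k - 1 := by simpa using sub_dvd_pow_sub_pow linv 1 k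
      rw [hd']
      exact Commute.isNilpotent_mul_right (Commute.all _ _) hv
    exact Lambda.exists_inv_one_tmul (by rw [Nat.cast_pow]; exact hjR.pow _) hN
  · have hw' : T' w * ((1 : R) ⊗ₜ[ℤ] KRR.bott Pe j (AdjoinRoot.of _ e * le)) = 1 := by
      rw [← map_one T', ← hw, map_mul, hT', ← hbott, Φ.symm_apply_apply]
    have key := Lambda.adams_rr hext hline hsP le hle hsY he hr f hf hj (T' w) hw' (Φ.symm z)
    have hadams : adams Pe j (Φ.symm z) = Φ.symm (adams PP j z) := Φ.injective (by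
      rw [Φ.apply_symm_apply]
      refine (map_adams_hom (P := Pe) (Q := PP) Φ.toRingHom (fun i x => Φ.apply_symm_apply _) (fun x => rfl) j _).trans ?_
      exact congrArg (adams PP j) (Φ.apply_symm_apply z))
    have hfz : f (Φ.symm z) = g z := congrArg g (Φ.apply_symm_apply z)
    rw [hfz, hadams] at key
    rw [key, mul_right_comm]
    have hrhs : ∀ t, LinearMap.lTensor R f.toAddMonoidHom.toIntLinearMap t =
        LinearMap.lTensor R g.toIntLinearMap (T t) := fun t => by
      induction t using TensorProduct.induction_on with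
      | zero => simp
      | tmul a y => rw [hT, LinearMap.lTensor_tmul, LinearMap.lTensor_tmul]; rfl
      | add a b ha hb => simp only [map_add, ha, hb]
    rw [hrhs]
    congr 1
    rw [map_mul, map_mul, map_natCast, hT, Φ.apply_symm_apply]
    congr 1
    congr 1
    have hTT : ∀ t, T (T' t) = t := fun t => by
      induction t using TensorProduct.induction_on with
      | zero => simp
      | tmul a y => rw [hT', hT, Φ.apply_symm_apply]
      | add a b ha hb => simp only [map_add, ha, hb]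
    exact hTT w

end Core

section Models

/-- Two models are isomorphic. -/
theorem exists_model_equiv {X : Scheme.{u}} [IsNoetherian X] [ConnectedSpace ↥X] {K : Type v} [CommRing K]
    [LambdaOps K] {P : PosStructure K} {φ : SGA6.Kvb X →+ K} {K₀ : Type w} [CommRing K₀] [LambdaOps K₀]
    {P₀ : PosStructure K₀} {φ₀ : SGA6.Kvb X →+ K₀} (hK : KRR.IsModel X K P φ) (hK₀ : KRR.IsModel X K₀ P₀ φ₀) :
    ∃ a : K ≃+* K₀, (∀ x, a (φ x) = φ₀ x) ∧ (∀ i x, a (LambdaOps.lam i x) = LambdaOps.lam i (a x)) ∧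
      ∀ x, P₀.aug (a x) = P.aug x := by
  let a : K →+ K₀ := φ₀.comp (AddEquiv.ofBijective φ hK.bijective).symm.toAddMonoidHom
  have hφ : ∀ x, a (φ x) = φ₀ x := fun x =>
    congrArg φ₀ ((AddEquiv.ofBijective φ hK.bijective).symm_apply_apply x)
  have ha : KRR.IsPull (𝟙 X) φ φ₀ a := fun F hF => by
    rw [hφ]
    exact congrArg φ₀ (KRRReg.cl_iso ((Scheme.Modules.pullbackId X).app F).symm hF)
  have hbij : Function.Bijective (KRRReg.pullRingHom hK₀ hK ha) :=
    hK₀.bijective.comp (AddEquiv.ofBijective φ hK.bijective).symm.bijective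
  exact ⟨RingEquiv.ofBijective _ hbij, hφ, KRRReg.pull_lam hK₀ hK ha, KRRReg.pull_aug hK₀ hK ha⟩

end Models

/-- Adams operations and `p_K`. -/
theorem adams_push (n : ℕ) (Y : Scheme.{u}) [IsNoetherian Y] [ConnectedSpace ↥Y]
    (KP : Type v) [CommRing KP] [LambdaOps KP] (PP : PosStructure KP) (φP : SGA6.Kvb (KRR.PY n Y) →+ KP)
    (hKP : KRR.IsModel (KRR.PY n Y) KP PP φP)
    (KY : Type v) [CommRing KY] [LambdaOps KY] (PY : PosStructure KY) (φY : SGA6.Kvb Y →+ KY)
    (hKY : KRR.IsModel Y KY PY φY)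
    (g : KP →+ KY) (hg : KRR.IsPushPr n Y φP φY g) (j : ℕ) (hj : 1 ≤ j)
    (R : Type) [CommRing R] [Module.Flat ℤ R] (hjR : IsUnit (j : R)) :
    (∃ w : R ⊗[ℤ] KP, w * ((1 : R) ⊗ₜ[ℤ] KRR.bott PP j (φP (KRR.cl (KRR.PY n Y)
      (KRR.twF n Y (-1) ((Scheme.Modules.pullback (KRR.pr n Y)).obj (FlatMod.freeMod Y (n + 1))))))) = 1) ∧
    ∀ w : R ⊗[ℤ] KP, w * ((1 : R) ⊗ₜ[ℤ] KRR.bott PP j (φP (KRR.cl (KRR.PY n Y)
      (KRR.twF n Y (-1) ((Scheme.Modules.pullback (KRR.pr n Y)).obj (FlatMod.freeMod Y (n + 1))))))) = 1 → ∀ z : KP,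
    (1 : R) ⊗ₜ[ℤ] adams PY j (g z) =
      LinearMap.lTensor R g.toIntLinearMap
        ((j : R ⊗[ℤ] KP) * ((1 : R) ⊗ₜ[ℤ] adams PP j z) * w) := by
  obtain ⟨q₀, hG⟩ := exists_isGrass_pr n Y
  obtain ⟨_, _⟩ := isNoetherian_connected hG.isProjBundle (GGTriv.isFinLocFreeOfRank_freeMod (n + 1))
  obtain ⟨KP', _, _, PP', φP', hKP'⟩ := ExtPowSh.exists_model (X := KRR.PY n Y)
  obtain ⟨KY', _, _, PY', φY', hKY'⟩ := ExtPowSh.exists_model (X := Y)
  obtain ⟨a, ha, halam, haaug⟩ := exists_model_equiv hKP hKP'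
  obtain ⟨b, hb, hblam, hbaug⟩ := exists_model_equiv hKY hKY'
  let g' : KP' →+ KY' := (b.toAddMonoidHom.comp g).comp a.symm.toAddMonoidHom
  have hg' : KRR.IsPushPr n Y φP' φY' g' := fun F hF hR => by
    show b (g (a.symm (φP' _))) = _
    rw [← ha, a.symm_apply_apply, hg F hF hR, hb]
  obtain ⟨⟨w₀, hw₀⟩, hmain⟩ := adams_push_core n hKP' hKY' hg' hj R hjR
  let T : R ⊗[ℤ] KP →+* R ⊗[ℤ] KP' := Lambda.liftR (Lambda.incL R KP') ((Lambda.incR R KP').comp a.toRingHom)
  let T' : R ⊗[ℤ] KP' →+* R ⊗[ℤ] KP := Lambda.liftR (Lambda.incL R KP) ((Lambda.incR R KP).comp a.symm.toRingHom)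
  have hT : ∀ (c : R) x, T (c ⊗ₜ[ℤ] x) = c ⊗ₜ[ℤ] a x := fun c x =>
    (Lambda.liftR_tmul _ _ c x).trans (Lambda.incL_mul_incR R KP' c (a x))
  have hT' : ∀ (c : R) x, T' (c ⊗ₜ[ℤ] x) = c ⊗ₜ[ℤ] a.symm x := fun c x =>
    (Lambda.liftR_tmul _ _ c x).trans (Lambda.incL_mul_incR R KP c (a.symm x))
  have hq : a (KRR.bott PP j (qCl n φP)) = KRR.bott PP' j (qCl n φP') := by
    refine (map_bott_hom (Q := PP') a.toRingHom halam haaug j _).trans ?_
    exact congrArg (KRR.bott PP' j) (ha _)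
  refine ⟨⟨T' w₀, ?_⟩, fun w hw z => ?_⟩
  · have h := congrArg T' hw₀
    rw [map_mul, map_one, hT', ← hq, a.symm_apply_apply] at h
    exact h
  · have hw' : T w * ((1 : R) ⊗ₜ[ℤ] KRR.bott PP' j (qCl n φP')) = 1 := by
      rw [← map_one T, ← hw, map_mul, hT, ← hq]
      rfl
    have key := hmain (T w) hw' (a z)
    have hz : adams PY' j (g' (a z)) = b (adams PY j (g z)) := by
      show adams PY' j (b (g (a.symm (a z)))) = _
      rw [a.symm_apply_apply]
      exact (map_adams_hom b.toRingHom hblam hbaug j (g z)).symm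
    have hz' : adams PP' j (a z) = a (adams PP j z) := (map_adams_hom a.toRingHom halam haaug j z).symm
    have hS : ∀ t, LinearMap.lTensor R g'.toIntLinearMap (T t) =
        LinearMap.lTensor R b.toAddMonoidHom.toIntLinearMap (LinearMap.lTensor R g.toIntLinearMap t) := fun t => by
      induction t using TensorProduct.induction_on with
      | zero => simp
      | tmul c y => rw [hT]; simp [g']
      | add c d hc hd => simp only [map_add, hc, hd]
    refine Lambda.lTensor_injective (R := R) b.toRingHom b.injective ?_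
    rw [hz, hz', ← hT, ← map_natCast T, ← map_mul, ← map_mul, hS] at key
    exact (LinearMap.lTensor_tmul R _ _ _).trans key

end Groth.Agent.KPB
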