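import Groth.Agent.KPB.Model
import Groth.Agent.H9PB.BundleProj
import Groth.Agent.H9PB.GrassFrame
import Groth.Agent.Lambda.Pos

/-!
# The splitting principle by iterated projective bundles
-/

set_option autoImplicit false
set_option linter.style.haveILetI false
set_option linter.unusedSectionVars false
set_option backward.isDefEq.respectTransparency false
set_option backward.isDefEq.respectTransparency.types false
set_option maxHeartbeats 1000000

universe v u

open CategoryTheory CategoryTheory.Limits AlgebraicGeometry TopologicalSpace Opposite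

attribute [-instance] CategoryTheory.catToReflQuiver

noncomputable section

namespace Groth.Agent.KPB

open Groth.Agent Groth.Agent.H23.PicMul KRRReg

/-- A map with connected fibres that is closed and surjective onto a connected space. -/
theorem connectedSpace_of_fibres {A B : Type*} [TopologicalSpace A] [TopologicalSpace B] [ConnectedSpace B]
    (f : A → B) (hc : IsClosedMap f) (hsur : Function.Surjective f)
    (hf : ∀ b, ∃ a₀, f a₀ = b ∧ ∀ a, f a = b → a₀ ⤳ a) : ConnectedSpace A := by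
  obtain ⟨b₀⟩ := (inferInstance : Nonempty B)
  haveI : Nonempty A := ⟨(hsur b₀).choose⟩
  refine connectedSpace_iff_clopen.2 ⟨inferInstance, fun s hs => ?_⟩
  have hsat : ∀ a a', f a = f a' → a ∈ s → a' ∈ s := fun a a' h ha => by
    obtain ⟨g, hg, hspec⟩ := hf (f a)
    have h1 : g ∈ s := (hspec a rfl).mem_open hs.isOpen ha
    exact (hspec a' h.symm).mem_closed hs.isClosed h1
  have himg : f '' s = (f '' sᶜ)ᶜ := by
    ext b
    constructor
    · rintro ⟨a, ha, rfl⟩ ⟨a', ha', h⟩
      exact ha' (hsat a a' h.symm ha)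
    · intro h
      obtain ⟨a, rfl⟩ := hsur b
      exact ⟨a, not_not.1 fun ha => h ⟨a, ha, rfl⟩, rfl⟩
  have hclopen : IsClopen (f '' s) :=
    ⟨hc _ hs.isClosed, by rw [himg]; exact (hc _ hs.compl.isClosed).isOpen_compl⟩
  rcases isClopen_iff.1 hclopen with h | h
  · exact Or.inl (Set.image_eq_empty.1 h)
  · refine Or.inr (Set.eq_univ_of_forall fun a => ?_)
    obtain ⟨a', ha', he⟩ := h.ge (Set.mem_univ (f a))
    exact hsat a' a he ha'

variable {X : Scheme.{u}}

/-- The total space of a projective bundle on a connected Noetherian scheme. -/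
theorem isNoetherian_connected [IsNoetherian X] [ConnectedSpace ↥X] {P : Scheme.{u}} {π : P ⟶ X}
    {O1 : P.Modules} {r : ℕ} {E : X.Modules} {q : (Scheme.Modules.pullback π).obj E ⟶ O1}
    (hP : KRR.IsProjBundle π E O1 q) (hE : FlatMod.IsFinLocFreeOfRank (r + 1) E) :
    IsNoetherian P ∧ ConnectedSpace ↥P := by
  haveI := H9PB.isProper_of_isProjBundle hP hE
  haveI hsurj : Surjective π := (GrassSch.geometry (Grass.IsGrass.of_isProjBundle hP) hE (by omega)).2.2.1
  have hfr := H9PB.charted_of_isProjBundle hP hE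
  refine ⟨{ toIsLocallyNoetherian := LocallyOfFiniteType.isLocallyNoetherian π
            toCompactSpace := QuasiCompact.compactSpace_of_compactSpace π },
    connectedSpace_of_fibres π π.isClosedMap π.surjective fun x => ?_⟩
  let η : hfr.opn x := ⟨x, hfr.mem_opn x⟩
  exact ⟨(hfr.frame x).gp η 0, (hfr.frame x).p_gp η 0, fun a ha => (hfr.frame x).gp_zero_specializes (η := η) ha⟩

variable [IsNoetherian X] [ConnectedSpace ↥X] {KX : Type v} [CommRing KX] [LambdaRing.LambdaOps KX]
  {PX : LambdaRing.PosStructure KX} {φX : SGA6.Kvb X →+ KX}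

theorem isExtension_pull {P : Scheme.{u}} [IsNoetherian P] [ConnectedSpace ↥P] {π : P ⟶ X} {KP : Type v} [CommRing KP]
    [LambdaRing.LambdaOps KP] {PP : LambdaRing.PosStructure KP} {φP : SGA6.Kvb P →+ KP}
    (hKX : KRR.IsModel X KX PX φX) (hKP : KRR.IsModel P KP PP φP) {g : KX →+ KP} (hg : KRR.IsPull π φX φP g)
    (hinj : Function.Injective g) : LambdaRing.IsExtension PX PP (pullRingHom hKP hKX hg) where
  isLambdaHom := pull_lam hKP hKX hg
  injective := hinj
  aug_comp := pull_aug hKP hKX hg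
  pos_subset e he := by
    obtain ⟨n, E, hn, hE, rfl⟩ := (hKX.mem_pos_iff e).1 he
    exact (hKP.mem_pos_iff _).2 ⟨n, _, hn, KRRReg.isFinLocFreeOfRank_pullback π hE,
      (hg E (ExtPowSh.flf_of_rank hE)).symm⟩

omit [ConnectedSpace ↥X] in
/-- The first step: a line splits off on the projective bundle. -/
theorem exists_quotient_line {P : Scheme.{u}} [IsNoetherian P] [ConnectedSpace ↥P] {π : P ⟶ X} {O1 : P.Modules}
    {n : ℕ} {E : X.Modules} {q : (Scheme.Modules.pullback π).obj E ⟶ O1} (hP : KRR.IsProjBundle π E O1 q)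
    (hE : FlatMod.IsFinLocFreeOfRank (n + 1) E) :
    ∃ F : P.Modules, FlatMod.IsFinLocFreeOfRank n F ∧
      KRR.cl P ((Scheme.Modules.pullback π).obj E) = KRR.cl P F + KRR.cl P O1 := by
  obtain ⟨x₀⟩ := (inferInstance : Nonempty ↥P)
  have hG := KRRReg.isFinLocFreeOfRank_pullback π hE
  have hGf := ExtPowSh.flf_of_rank hG
  have hOf := ExtPowSh.flf_of_rank hP.invertible
  haveI := hP.epi
  let S := ShortComplex.mk (kernel.ι q) q (kernel.condition q)
  have hS : S.ShortExact :=
    { exact := ShortComplex.exact_kernel q, mono_f := inferInstance, epi_g := inferInstance }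
  have hFf : FlatMod.IsFinLocFree S.X₁ := KZ.LFRes.pdlt_one_iff.1
    (KZ.LFRes.PDLT.kernel_of hS (KZ.LFRes.pdlt_one_iff.2 hGf)
      ((KZ.LFRes.pdlt_one_iff.2 hOf).mono (Nat.le_succ _)))
  have h := ExtPowSh.rk_add hS hFf hOf x₀
  rw [ExtPowSh.rk_eq hG x₀, ExtPowSh.rk_eq hP.invertible x₀] at h
  refine ⟨S.X₁, ?_, KZ.clSub_ses (KRR.vbP P) hS hFf hGf hOf⟩
  rw [show n = ExtPowSh.rk S.X₁ x₀ by omega]
  exact ExtPowSh.isFinLocFreeOfRank_rk hFf x₀

/-- A space over `X` on which `E` splits, with injective pull-back and a further property `Q`. -/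
theorem exists_split_bundle
    (Q : ∀ (X : Scheme.{u}) (K : Type (u + 1)) [CommRing K] [LambdaRing.LambdaOps K]
      (_ : LambdaRing.PosStructure K) (X' : Scheme.{u}) (K' : Type (u + 1)) [CommRing K'] [LambdaRing.LambdaOps K']
      (_ : LambdaRing.PosStructure K') (_ : K →+ K'), Prop)
    (hid : ∀ (X : Scheme.{u}) [IsNoetherian X] [ConnectedSpace ↥X] (K : Type (u + 1)) [CommRing K]
      [LambdaRing.LambdaOps K] (P : LambdaRing.PosStructure K) (φ : SGA6.Kvb X →+ K),
      KRR.IsModel X K P φ → Q X K P X K P (AddMonoidHom.id K))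
    (hstep : ∀ (X : Scheme.{u}) [IsNoetherian X] [ConnectedSpace ↥X] (K : Type (u + 1)) [CommRing K]
      [LambdaRing.LambdaOps K] (PK : LambdaRing.PosStructure K) (φ : SGA6.Kvb X →+ K),
      KRR.IsModel X K PK φ → ∀ (P : Scheme.{u}) [IsNoetherian P] [ConnectedSpace ↥P] (KP : Type (u + 1)) [CommRing KP]
      [LambdaRing.LambdaOps KP] (PP : LambdaRing.PosStructure KP) (φP : SGA6.Kvb P →+ KP),
      KRR.IsModel P KP PP φP → ∀ (r : ℕ) (E : X.Modules), FlatMod.IsFinLocFreeOfRank (r + 1) E →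
      ∀ (π : P ⟶ X) (O1 : P.Modules) (q : (Scheme.Modules.pullback π).obj E ⟶ O1), KRR.IsProjBundle π E O1 q →
      ∀ (g : K →+ KP), KRR.IsPull π φ φP g →
      ∀ (X' : Scheme.{u}) (K' : Type (u + 1)) [CommRing K'] [LambdaRing.LambdaOps K']
        (P' : LambdaRing.PosStructure K') (g' : KP →+ K'), Q P KP PP X' K' P' g' → Q X K PK X' K' P' (g'.comp g)) :
    ∀ (m : ℕ) (X : Scheme.{u}) [IsNoetherian X] [ConnectedSpace ↥X] (K : Type (u + 1)) [CommRing K]
      [LambdaRing.LambdaOps K] (P : LambdaRing.PosStructure K) (φ : SGA6.Kvb X →+ K), KRR.IsModel X K P φ →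
      ∀ E : X.Modules, FlatMod.IsFinLocFreeOfRank m E →
      ∃ (X' : Scheme.{u}) (_ : IsNoetherian X') (_ : ConnectedSpace ↥X') (f : X' ⟶ X)
        (K' : Type (u + 1)) (_ : CommRing K') (_ : LambdaRing.LambdaOps K') (P' : LambdaRing.PosStructure K')
        (φ' : SGA6.Kvb X' →+ K') (_ : KRR.IsModel X' K' P' φ') (g : K →+ K') (_ : KRR.IsPull f φ φ' g),
        Function.Injective g ∧ Q X K P X' K' P' g ∧
        ∃ L : Fin m → X'.Modules, (∀ j, FlatMod.IsFinLocFreeOfRank 1 (L j)) ∧
          g (φ (KRR.cl X E)) = ∑ j, φ' (KRR.cl X' (L j)) := by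
  intro m
  induction m with
  | zero =>
    intro X _ _ K _ _ P φ hK E hE
    refine ⟨X, inferInstance, inferInstance, 𝟙 X, K, inferInstance, inferInstance, P, φ, hK, AddMonoidHom.id K,
      fun F hF => congrArg φ (cl_iso ((Scheme.Modules.pullbackId X).app F).symm hF), Function.injective_id,
      hid X K P φ hK, Fin.elim0, fun j => j.elim0, ?_⟩
    rw [Fin.sum_univ_zero, show KRR.cl X E = 0 from KZ.clSub_isZero _ (ExtPowSh.isZero_of_rank_zero hE), map_zero,
      map_zero]
  | succ n ih =>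
    intro X _ _ K _ _ PK φ hK E hE
    obtain ⟨P, π, O1, q, hP⟩ := H9PB.exists_bundle (X := X) hE
    obtain ⟨_, _⟩ := isNoetherian_connected hP hE
    obtain ⟨KP, _, _, PP, φP, hKP⟩ := ExtPowSh.exists_model (X := P)
    obtain ⟨g, hg, -⟩ := KRRReg.existsUnique_isPull π φP hK.bijective
    obtain ⟨F, hF, hEF⟩ := exists_quotient_line hP hE
    obtain ⟨X', hN, hC, f, K', _, _, P', φ', hK', g', hg', hinj, hQ, L, hL, hsum⟩ := ih P KP PP φP hKP F hF
    haveI := hN
    haveI := hC
    have hgi : Function.Injective g := fun a b hab => by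
      have h := (bijective_powers hE hP hK hKP hg).1
        (a₁ := fun i => if i = 0 then a else 0) (a₂ := fun i => if i = 0 then b else 0) (by
          show ∑ i : Fin (n + 1), g (if i = 0 then a else 0) * _ = ∑ i : Fin (n + 1), g (if i = 0 then b else 0) * _
          rw [Finset.sum_eq_single 0 (fun i _ hi => by rw [if_neg hi, map_zero, zero_mul]) (by simp),
            Finset.sum_eq_single 0 (fun i _ hi => by rw [if_neg hi, map_zero, zero_mul]) (by simp)]
          simp [hab])
      simpa using congrFun h 0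
    refine ⟨X', hN, hC, f ≫ π, K', inferInstance, inferInstance, P', φ', hK', g'.comp g, fun G hG => ?_,
      hinj.comp hgi, hstep X K PK φ hK P KP PP φP hKP n E hE π O1 q hP g hg X' K' P' g' hQ,
      Fin.cons ((Scheme.Modules.pullback f).obj O1) L, ?_, ?_⟩
    · show g' (g (φ (KRR.cl X G))) = _
      rw [hg G hG, hg' _ (KFlatLib.isFinLocFree_pullback π hG)]
      exact congrArg φ' (cl_iso ((Scheme.Modules.pullbackComp f π).app G)
        (KFlatLib.isFinLocFree_pullback f (KFlatLib.isFinLocFree_pullback π hG)))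
    · intro j
      refine Fin.cases ?_ (fun i => ?_) j
      · exact KRRReg.isFinLocFreeOfRank_pullback f hP.invertible
      · exact hL i
    · show g' (g (φ (KRR.cl X E))) = _
      rw [hg E (ExtPowSh.flf_of_rank hE), hEF, map_add, map_add, hsum,
        hg' O1 (ExtPowSh.flf_of_rank hP.invertible), Fin.sum_univ_succ, add_comm]
      simp

/-- Models of Grothendieck rings have the splitting property. -/
theorem hasSplitting_model {K : Type (u + 1)} [CommRing K] [LambdaRing.LambdaOps K] {P : LambdaRing.PosStructure K}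
    {φ : SGA6.Kvb X →+ K} (hK : KRR.IsModel X K P φ) : LambdaRing.HasSplitting K P := by
  refine ⟨{L : LambdaRing.PosLambdaRing.{u + 1} | ∃ (Y : Scheme.{u}) (_ : IsNoetherian Y) (_ : ConnectedSpace ↥Y)
    (ψ : SGA6.Kvb Y →+ L.carrier), KRR.IsModel Y L.carrier L.posStr ψ}, ⟨X, inferInstance, inferInstance, φ, hK⟩, ?_⟩
  rintro L ⟨Y, hN, hC, ψ, hM⟩ e he
  haveI := hN
  haveI := hC
  obtain ⟨m, E, -, hE, rfl⟩ := (hM.mem_pos_iff e).1 he
  obtain ⟨X', _, _, f, K', _, _, P', φ', hK', g, hg, hinj, -, Lm, hL, hsum⟩ :=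
    exists_split_bundle (fun _ _ _ _ _ _ _ _ _ _ _ => True) (fun _ _ _ _ _ _ _ _ _ => trivial)
      (by intros; trivial) m Y L.carrier L.posStr ψ hM E hE
  refine ⟨⟨K', P'⟩, ⟨X', inferInstance, inferInstance, φ', hK'⟩, pullRingHom hK' hM hg,
    isExtension_pull hM hK' hg hinj, Finset.univ.val.map fun j => φ' (KRR.cl X' (Lm j)), ?_, ?_⟩
  · intro u hu
    obtain ⟨j, -, rfl⟩ := Multiset.mem_map.1 hu
    exact ⟨(hK'.mem_pos_iff _).2 ⟨1, Lm j, le_rfl, hL j, rfl⟩, by rw [hK'.aug_cl 1 _ (hL j)]; rfl⟩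
  · exact hsum.symm

end Groth.Agent.KPB
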