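import Groth.Agent.KPB.PnUniv
import Groth.Agent.H9PB.ChernClass
import Groth.Agent.FpqcMod.Eff.Cocycle
import Groth.Agent.ConsPropLib.FibreLocFree
import Groth.Agent.KFlatLib.Scheme.GlueD
import Groth.Agent.KRRReg.KMaps

/-!
# Charts of a projective bundle and the counit of its projection
-/

set_option autoImplicit false
set_option linter.style.haveILetI false
set_option linter.unusedSectionVars false
set_option backward.isDefEq.respectTransparency false
set_option backward.isDefEq.respectTransparency.types false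
set_option maxHeartbeats 1000000

universe u

open CategoryTheory CategoryTheory.Limits AlgebraicGeometry TopologicalSpace Opposite

attribute [-instance] CategoryTheory.catToReflQuiver

noncomputable section

namespace Groth.Agent.KPB

open Groth.Agent Groth.Agent.H23.PicMul KRRReg

section OpenImm

variable {Y Z : Scheme.{u}} (g : Y ⟶ Z) [IsOpenImmersion g]

theorem bijective_pullSec_open (M : Z.Modules) {O : Z.Opens} (hO : O ≤ g.opensRange) {W : Y.Opens}
    (hW : W = g ⁻¹ᵁ O) : Function.Bijective (QCoh.pullSec g M hW.le) := by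
  subst hW
  haveI : IsIso (homOfLE (le_refl (g ⁻¹ᵁ O))).op :=
    ⟨(homOfLE le_rfl).op, Subsingleton.elim _ _, Subsingleton.elim _ _⟩
  exact (ConcreteCategory.bijective_of_isIso
    (((Scheme.Modules.pullback g).obj M).presheaf.map (homOfLE (le_refl (g ⁻¹ᵁ O))).op)).comp
      (EtLC12.AssocUnit.bijective_usec_of_isOpenImmersion g M O hO)

theorem preservesFiniteLimits_pullback : PreservesFiniteLimits (Scheme.Modules.pullback g) :=
  preservesFiniteLimits_of_natIso (Scheme.Modules.restrictFunctorIsoPullback g)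

theorem isZero_of_pullback_cover {X : Scheme.{u}} {J : Type*} {U : J → Scheme.{u}} (j : ∀ i, U i ⟶ X)
    [∀ i, IsOpenImmersion (j i)] (hc : ∀ x, ∃ i, x ∈ Set.range (j i)) {M : X.Modules}
    (h : ∀ i, IsZero ((Scheme.Modules.pullback (j i)).obj M)) : IsZero M := by
  refine (IsZero.iff_id_eq_zero _).2 (QCoh.hom_ext_app fun O s => AModX.eq_of_locally _ _ fun x hx => ?_)
  obtain ⟨i, z, rfl⟩ := hc x
  refine ⟨j i ''ᵁ (j i ⁻¹ᵁ O), (j i).image_preimage_le O, ⟨z, hx, rfl⟩, ?_⟩
  have hz := (h i).of_iso ((Scheme.Modules.restrictFunctorIsoPullback (j i)).app M)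
  have h0 := congr(($(hz.eq_of_src (𝟙 _) 0)).app (j i ⁻¹ᵁ O)
    (AModX.res M ((j i).image_preimage_le O) s))
  show AModX.res M _ s = AModX.res M _ 0
  rw [map_zero]
  exact h0

end OpenImm

section Square

variable {A B B' Z : Scheme.{u}} (a : A ⟶ B) (b : B ⟶ Z) (a' : A ⟶ B') (b' : B' ⟶ Z) (h : a ≫ b = a' ≫ b')

/-- The comparison of pull-backs around a commutative square. -/
def sqIso (N : Z.Modules) : (Scheme.Modules.pullback a).obj ((Scheme.Modules.pullback b).obj N) ≅
    (Scheme.Modules.pullback a').obj ((Scheme.Modules.pullback b').obj N) :=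
  (Scheme.Modules.pullbackComp a b).app N ≪≫
    (Scheme.Modules.pullbackCongr h).app N ≪≫ ((Scheme.Modules.pullbackComp a' b').app N).symm

theorem sqIso_pullSec (N : Z.Modules) {W : A.Opens} {U : B.Opens} {U' : B'.Opens} {O : Z.Opens}
    (h₁ : U ≤ b ⁻¹ᵁ O) (h₂ : W ≤ a ⁻¹ᵁ U) (h₁' : U' ≤ b' ⁻¹ᵁ O) (h₂' : W ≤ a' ⁻¹ᵁ U') (y : Γ(N, O)) :
    (sqIso a b a' b' h N).hom.app W (QCoh.pullSec a _ h₂ (QCoh.pullSec b N h₁ y)) =
      QCoh.pullSec a' _ h₂' (QCoh.pullSec b' N h₁' y) := by
  refine (ConcreteCategory.bijective_of_isIso (((Scheme.Modules.pullbackComp a' b').hom.app N).app W)).1 ?_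
  refine Eq.trans ?_ (ExistEasy.pullSec_comp a' b' N h₁' h₂' y).symm
  refine (congr(($((Scheme.Modules.pullbackComp a' b').inv_hom_id_app N)).app W _)).trans ?_
  exact (congrArg (((Scheme.Modules.pullbackCongr h).hom.app N).app W)
    (ExistEasy.pullSec_comp a b N h₁ h₂ y)).trans (ExistEasy.pullSec_congr h N _ y)

end Square

variable {X P : Scheme.{u}} (π : P ⟶ X) (O1 : P.Modules) (r : ℕ)

/-- A trivialisation of a projective bundle over an affine open. -/
structure Chart where
  V : X.Opens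
  aff : IsAffineOpen V
  j : KRR.PY r V.toScheme ⟶ P
  sq : IsPullback j (KRR.pr r V.toScheme) π V.ι
  oIso : (Scheme.Modules.pullback j).obj O1 ≅ O1P r V.toScheme

variable {π O1 r}

namespace Chart

variable (c : Chart π O1 r)

instance isOpenImmersion_j : IsOpenImmersion c.j :=
  MorphismProperty.of_isPullback c.sq.flip (inferInstanceAs (IsOpenImmersion c.V.ι))

theorem comm : c.j ≫ π = KRR.pr r c.V.toScheme ≫ c.V.ι := c.sq.w

theorem le_range : π ⁻¹ᵁ c.V ≤ c.j.opensRange := by
  intro y hy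
  obtain ⟨w, hw, -⟩ := Scheme.Pullback.exists_preimage_pullback (f := π) (g := c.V.ι) y ⟨π y, hy⟩ rfl
  refine ⟨c.sq.isoPullback.inv w, ?_⟩
  rw [← Scheme.Hom.comp_apply, c.sq.isoPullback_inv_fst]
  exact hw

theorem preimage_eq (U : c.V.toScheme.Opens) :
    KRR.pr r c.V.toScheme ⁻¹ᵁ U = c.j ⁻¹ᵁ (π ⁻¹ᵁ (c.V.ι ''ᵁ U)) := by
  rw [← Scheme.Hom.comp_preimage, c.comm, Scheme.Hom.comp_preimage, Scheme.Hom.preimage_image_eq]

/-- The comparison of the two pull-backs of a module on the base. -/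
def α (N : X.Modules) : (Scheme.Modules.pullback (KRR.pr r c.V.toScheme)).obj ((Scheme.Modules.pullback c.V.ι).obj N) ≅
    (Scheme.Modules.pullback c.j).obj ((Scheme.Modules.pullback π).obj N) :=
  sqIso (KRR.pr r c.V.toScheme) c.V.ι c.j π c.comm.symm N

theorem α_pullSec (N : X.Modules) (U : c.V.toScheme.Opens) (y : Γ(N, c.V.ι ''ᵁ U)) :
    (c.α N).hom.app (KRR.pr r c.V.toScheme ⁻¹ᵁ U)
        (QCoh.pullSec (KRR.pr r c.V.toScheme) ((Scheme.Modules.pullback c.V.ι).obj N) le_rfl
          (QCoh.pullSec c.V.ι N (c.V.ι.preimage_image_eq U).ge y)) =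
      QCoh.pullSec c.j ((Scheme.Modules.pullback π).obj N) (c.preimage_eq U).le
        (QCoh.pullSec π N (le_refl (π ⁻¹ᵁ (c.V.ι ''ᵁ U))) y) :=
  sqIso_pullSec _ _ _ _ _ N _ _ _ _ y

/-- The pull-back of the counit, moved to the chart. -/
def counitHom (F : P.Modules) : (Scheme.Modules.pullback (KRR.pr r c.V.toScheme)).obj
    ((Scheme.Modules.pullback c.V.ι).obj ((Scheme.Modules.pushforward π).obj F)) ⟶
      (Scheme.Modules.pullback c.j).obj F :=
  (c.α _).hom ≫ (Scheme.Modules.pullback c.j).map ((Scheme.Modules.pullbackPushforwardAdjunction π).counit.app F)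

/-- Base change to a chart. -/
def β (F : P.Modules) : (Scheme.Modules.pullback c.V.ι).obj ((Scheme.Modules.pushforward π).obj F) ⟶
    (Scheme.Modules.pushforward (KRR.pr r c.V.toScheme)).obj ((Scheme.Modules.pullback c.j).obj F) :=
  (Scheme.Modules.pullbackPushforwardAdjunction (KRR.pr r c.V.toScheme)).homEquiv _ _ (c.counitHom F)

theorem β_pullSec (F : P.Modules) (U : c.V.toScheme.Opens) (y : Γ(F, π ⁻¹ᵁ (c.V.ι ''ᵁ U))) :
    (c.β F).app U (QCoh.pullSec c.V.ι ((Scheme.Modules.pushforward π).obj F) (c.V.ι.preimage_image_eq U).ge y) =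
      QCoh.pullSec c.j F (c.preimage_eq U).le y := by
  rw [β, Adjunction.homEquiv_unit]
  refine Eq.trans (congrArg ((c.counitHom F).app (KRR.pr r c.V.toScheme ⁻¹ᵁ U)) (QCoh.map_id'
    (M := (Scheme.Modules.pullback (KRR.pr r c.V.toScheme)).obj
      ((Scheme.Modules.pullback c.V.ι).obj ((Scheme.Modules.pushforward π).obj F))) (homOfLE le_rfl) _).symm) ?_
  show ((Scheme.Modules.pullback c.j).map _).app _ ((c.α _).hom.app _ _) = _
  refine (congrArg _ (c.α_pullSec ((Scheme.Modules.pushforward π).obj F) U y)).trans ?_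
  rw [ExistEasy.pullSec_natural]
  refine congrArg (QCoh.pullSec c.j F _) ?_
  refine (congrArg (((Scheme.Modules.pullbackPushforwardAdjunction π).counit.app F).app _)
    (QCoh.map_id' (M := (Scheme.Modules.pullback π).obj ((Scheme.Modules.pushforward π).obj F)) _ _)).trans ?_
  exact congr(($((Scheme.Modules.pullbackPushforwardAdjunction π).right_triangle_components F)).app
    (c.V.ι ''ᵁ U) y)

instance isIso_β (F : P.Modules) : IsIso (c.β F) := by
  refine Scheme.Modules.Hom.isIso_iff_isIso_app.2 fun U => (ConcreteCategory.isIso_iff_bijective _).2 ?_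
  have h1 := bijective_pullSec_open c.V.ι ((Scheme.Modules.pushforward π).obj F) (O := c.V.ι ''ᵁ U)
    (c.V.ι.image_le_opensRange U) (c.V.ι.preimage_image_eq U).symm
  have hV : c.V.ι ''ᵁ U ≤ c.V := (c.V.ι.image_le_opensRange U).trans (le_of_eq (Scheme.Opens.opensRange_ι _))
  have h2 := bijective_pullSec_open c.j F (O := π ⁻¹ᵁ (c.V.ι ''ᵁ U))
    ((π.preimage_mono hV).trans c.le_range) (c.preimage_eq U)
  exact ⟨fun a b hab => by
      obtain ⟨a, rfl⟩ := h1.2 a
      obtain ⟨b, rfl⟩ := h1.2 b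
      rw [c.β_pullSec, c.β_pullSec] at hab
      rw [h2.1 hab],
    fun z => by
      obtain ⟨y, rfl⟩ := h2.2 z
      exact ⟨_, c.β_pullSec F U y⟩⟩

/-- Direct images restrict to charts. -/
def pushIso (F : P.Modules) : (Scheme.Modules.pullback c.V.ι).obj ((Scheme.Modules.pushforward π).obj F) ≅
    (Scheme.Modules.pushforward (KRR.pr r c.V.toScheme)).obj ((Scheme.Modules.pullback c.j).obj F) :=
  asIso (c.β F)

theorem pullback_counit (F : P.Modules) :
    (Scheme.Modules.pullback c.j).map ((Scheme.Modules.pullbackPushforwardAdjunction π).counit.app F) =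
      ((c.α _).symm ≪≫ (Scheme.Modules.pullback (KRR.pr r c.V.toScheme)).mapIso (c.pushIso F)).hom ≫
        (Scheme.Modules.pullbackPushforwardAdjunction (KRR.pr r c.V.toScheme)).counit.app _ := by
  have h : (Scheme.Modules.pullback (KRR.pr r c.V.toScheme)).map (c.β F) ≫
      (Scheme.Modules.pullbackPushforwardAdjunction (KRR.pr r c.V.toScheme)).counit.app _ = c.counitHom F := by
    refine ((Scheme.Modules.pullbackPushforwardAdjunction (KRR.pr r c.V.toScheme)).homEquiv_counit _ _ _).symm.trans ?_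
    exact Equiv.symm_apply_apply _ _
  show _ = ((c.α _).inv ≫ (Scheme.Modules.pullback (KRR.pr r c.V.toScheme)).map (c.β F)) ≫ _
  rw [Category.assoc, h, counitHom, Iso.inv_hom_id_assoc]

/-- The kernel of the counit restricts to charts. -/
def syzIso (F : P.Modules) :
    (Scheme.Modules.pullback c.j).obj
        (kernel ((Scheme.Modules.pullbackPushforwardAdjunction π).counit.app F)) ≅
      syz ((Scheme.Modules.pullback c.j).obj F) :=
  haveI := preservesFiniteLimits_pullback c.j
  PreservesKernel.iso (Scheme.Modules.pullback c.j) _ ≪≫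
    kernel.mapIso _ _ ((c.α _).symm ≪≫ (Scheme.Modules.pullback (KRR.pr r c.V.toScheme)).mapIso (c.pushIso F))
      (Iso.refl _) (by rw [Iso.refl_hom, Category.comp_id]; exact c.pullback_counit F)

end Chart

/-- Every point of the base has a chart. -/
theorem exists_chart {E : X.Modules} {q : (Scheme.Modules.pullback π).obj E ⟶ O1}
    (hP : KRR.IsProjBundle π E O1 q) (hE : FlatMod.IsFinLocFreeOfRank (r + 1) E) (x : X) :
    ∃ c : Chart π O1 r, x ∈ c.V := by
  obtain ⟨U, hx, ⟨e⟩⟩ := hE x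
  obtain ⟨V, hV, hxV, hle⟩ := exists_isAffineOpen_mem_and_subset hx
  obtain ⟨q', hG⟩ := exists_isGrass_pr r V.toScheme
  let ε : (Scheme.Modules.pullback V.ι).obj E ≅ FlatMod.freeMod V.toScheme (r + 1) :=
    (Scheme.Modules.pullbackCongr (X.homOfLE_ι hle).symm).app E ≪≫
      ((Scheme.Modules.pullbackComp (X.homOfLE hle) U.ι).app E).symm ≪≫
      (Scheme.Modules.pullback (X.homOfLE hle)).mapIso
        (((Scheme.Modules.restrictFunctorIsoPullback U.ι).app E).symm ≪≫ e) ≪≫
      KFlatLib.pullFreeIso (X.homOfLE hle) (r + 1)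
  obtain ⟨f', hsq, ⟨o⟩⟩ := H9PB.exists_square hP hG.isProjBundle V.ι ε
  exact ⟨⟨V, hV, f', hsq, o⟩, hxV⟩

end Groth.Agent.KPB
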