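import Groth.Agent.KPB.Split
import Groth.Agent.S3788
import Groth.Agent.Lambda.ExtFil
import Groth.Agent.Lambda.AdamsRR
import Groth.Agent.Lambda.Universal
import Groth.Agent.Lambda.ExtRing

/-!
# The γ-filtration of a projective bundle
-/

set_option autoImplicit false
set_option linter.style.haveILetI false
set_option linter.unusedSectionVars false
set_option backward.isDefEq.respectTransparency false
set_option backward.isDefEq.respectTransparency.types false
set_option maxHeartbeats 1000000

universe v u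

open CategoryTheory CategoryTheory.Limits AlgebraicGeometry TopologicalSpace Opposite Polynomial

attribute [-instance] CategoryTheory.catToReflQuiver

noncomputable section

namespace Groth.Agent.KPB

open Groth.Agent

section Algebra

variable {R S : Type v} [CommRing R] [LambdaRing.LambdaOps R] [CommRing S] [LambdaRing.LambdaOps S]

/-- A ring map commutes with the λ-operations at `x`. -/
def LamAt (ψ : R →+* S) (x : R) : Prop :=
  ∀ k, ψ (LambdaRing.LambdaOps.lam k x) = LambdaRing.LambdaOps.lam k (ψ x)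

variable {ψ : R →+* S}

theorem lamAt_add {x y : R} (hx : LamAt ψ x) (hy : LamAt ψ y) : LamAt ψ (x + y) := fun k => by
  rw [map_add, LambdaRing.LambdaOps.lam_add, LambdaRing.LambdaOps.lam_add, map_sum]
  exact Finset.sum_congr rfl fun i _ => by rw [map_mul, hx, hy]

theorem lamAt_sub {x y : R} (hx : LamAt ψ x) (hy : LamAt ψ y) : LamAt ψ (x - y) := fun k => by
  induction k using Nat.strong_induction_on with
  | _ k ih =>
    have h1 := congrArg ψ (LambdaRing.LambdaOps.lam_add k (x - y) y)
    have h2 := LambdaRing.LambdaOps.lam_add k (ψ (x - y)) (ψ y)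
    rw [← map_add, sub_add_cancel] at h2
    rw [sub_add_cancel, hx, h2, map_sum, Finset.sum_range_succ, Finset.sum_range_succ, Nat.sub_self] at h1
    conv_rhs at h1 => arg 1; rw [Finset.sum_congr rfl (g := fun i => LambdaRing.LambdaOps.lam i (ψ (x - y)) *
      LambdaRing.LambdaOps.lam (k - i) (ψ y)) (fun i hi => by
        rw [map_mul, ih i (Finset.mem_range.1 hi), hy])]
    rw [map_mul, LambdaRing.LambdaOps.lam_zero, LambdaRing.LambdaOps.lam_zero, map_one, mul_one, mul_one] at h1
    exact (add_left_cancel h1).symm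

theorem lamAt_mul (hR : LambdaRing.IsSpecial R) (hS : LambdaRing.IsSpecial S) {x y : R} (hx : LamAt ψ x)
    (hy : LamAt ψ y) : LamAt ψ (x * y) := fun k => by
  obtain ⟨Q, hQ⟩ := Lambda.exists_isMulPoly k
  rw [map_mul, hR.lam_mul k Q hQ, hS.lam_mul k Q hQ]
  rw [MvPolynomial.aeval_def, MvPolynomial.aeval_def, MvPolynomial.eval₂_comp_left ψ]
  congr 1
  · exact RingHom.ext_int _ _
  · funext j
    rcases j with j | j
    · exact hx _
    · exact hy _

end Algebra

variable {X P : Scheme.{u}} [IsNoetherian X] [ConnectedSpace ↥X] [IsNoetherian P] [ConnectedSpace ↥P]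
  {π : P ⟶ X} {O1 : P.Modules} {r : ℕ} {E : X.Modules} {q : (Scheme.Modules.pullback π).obj E ⟶ O1}

/-- The γ-filtration of `K(P(E))` meets `K(X)` in that of `K(X)`. -/
theorem gammaFiltration_comap (hE : FlatMod.IsFinLocFreeOfRank (r + 1) E) (hP : KRR.IsProjBundle π E O1 q)
    {KX KP : Type (u + 1)} [CommRing KX] [LambdaRing.LambdaOps KX] {PX : LambdaRing.PosStructure KX}
    {φX : SGA6.Kvb X →+ KX} [CommRing KP] [LambdaRing.LambdaOps KP] {PP : LambdaRing.PosStructure KP}
    {φP : SGA6.Kvb P →+ KP} (hKX : KRR.IsModel X KX PX φX) (hKP : KRR.IsModel P KP PP φP)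
    {g : KX →+ KP} (hg : KRR.IsPull π φX φP g) (k : ℕ) :
    (LambdaRing.gammaFiltration PP k).comap g = LambdaRing.gammaFiltration PX k := by
  classical
  let G := KRRReg.pullRingHom hKP hKX hg
  refine le_antisymm (fun a ha => ?_) fun a ha =>
    KRRReg.map_gammaFiltration G (KRRReg.pull_lam hKP hKX hg) (KRRReg.pull_aug hKP hKX hg) k ha
  set e := φX (KRR.cl X E) with he_def
  set l := φP (KRR.cl P O1)
  have hsX := hasSplitting_model hKX
  have hsP := hasSplitting_model hKP
  have he : e ∈ PX.pos := (hKX.mem_pos_iff _).2 ⟨r + 1, E, by omega, hE, rfl⟩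
  have haug : PX.aug e = r + 1 := by rw [hKX.aug_cl _ E hE]; push_cast; rfl
  have hN : (PX.aug e).toNat = r + 1 := by rw [haug]; omega
  have hline : PP.IsLine l :=
    ⟨(hKP.mem_pos_iff _).2 ⟨1, O1, le_rfl, hP.invertible, rfl⟩, by rw [hKP.aug_cl 1 O1 hP.invertible]; rfl⟩
  let f := KRR.extPoly PX e
  have hrel : f.eval₂ G l = 0 := by
    have h := Groth.Agent.S3788.result X P r E hE π O1 q hP KX PX φX hKX KP PP φP hKP g hg
    refine Eq.trans ?_ h
    show Polynomial.eval₂ G l (KRR.extPoly PX e) = _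
    rw [KRR.extPoly, hN, eval₂_finsetSum]
    refine Finset.sum_congr rfl fun i _ => ?_
    rw [eval₂_mul, eval₂_C, eval₂_pow, eval₂_X, map_mul, map_pow, map_neg, map_one]
    rfl
  let ψ : AdjoinRoot f →+* KP := AdjoinRoot.lift G l hrel
  letI := Lambda.extLambda hsX he
  let Pe := Lambda.extPosStructure hsX he
  have hmonic : f.Monic := Lambda.extPoly_monic (P := PX) e
  have hdeg : f.natDegree ≤ r + 1 := by
    refine (natDegree_sum_le_of_forall_le _ _ (n := r + 1) fun i _ => ?_)
    refine (natDegree_C_mul_X_pow_le _ _).trans ?_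
    omega
  have hbij := bijective_powers hE hP hKX hKP hg
  have hψcoef : ∀ c : ℕ → KX, ψ (∑ i ∈ Finset.range (r + 1), AdjoinRoot.of f (c i) * AdjoinRoot.root f ^ i) =
      ∑ i : Fin (r + 1), g (c i) * l ^ (i : ℕ) := fun c => by
    rw [map_sum, Finset.sum_range]
    refine Finset.sum_congr rfl fun i _ => ?_
    rw [map_mul, map_pow, AdjoinRoot.lift_of, AdjoinRoot.lift_root]
    rfl
  have hψinj : Function.Injective ψ := (injective_iff_map_eq_zero ψ).2 fun y hy => by
    obtain ⟨c, rfl⟩ := Lambda.exists_coeffs hmonic hdeg y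
    rw [hψcoef] at hy
    have hc := hbij.1 (a₁ := fun i : Fin (r + 1) => c i) (a₂ := 0) (hy.trans (by simp))
    refine Finset.sum_eq_zero fun i hi => ?_
    rw [show c i = 0 from congrFun hc ⟨i, Finset.mem_range.1 hi⟩, map_zero, zero_mul]
  have hψsurj : Function.Surjective ψ := fun y => by
    obtain ⟨c, rfl⟩ := hbij.2 y
    refine ⟨∑ i ∈ Finset.range (r + 1), AdjoinRoot.of f (if h : i < r + 1 then c ⟨i, h⟩ else 0) *
      AdjoinRoot.root f ^ i, ?_⟩
    rw [hψcoef]
    exact Finset.sum_congr rfl fun i _ => by rw [dif_pos i.isLt]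
  have hof : ∀ b, LamAt ψ (AdjoinRoot.of f b) := fun b j => by
    show ψ (Lambda.extLam PX e j (AdjoinRoot.of f b)) = _
    rw [Lambda.extLam_of hsX he, AdjoinRoot.lift_of, AdjoinRoot.lift_of]
    exact KRRReg.pull_lam hKP hKX hg j b
  have hroot : LamAt ψ (AdjoinRoot.root f) := fun j => by
    match j with
    | 0 => rw [LambdaRing.LambdaOps.lam_zero, LambdaRing.LambdaOps.lam_zero, map_one]
    | 1 => rw [LambdaRing.LambdaOps.lam_one, LambdaRing.LambdaOps.lam_one]
    | j + 2 =>
      show ψ (Lambda.extLam PX e (j + 2) (AdjoinRoot.root f)) = _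
      rw [Lambda.extLam_root hsX he (by omega), map_zero, AdjoinRoot.lift_root,
        PP.lam_eq_zero l hline.1 (j + 2) (by rw [hline.2]; omega)]
  have hspec := Lambda.isSpecial_ext hsX he
  have hspP := Lambda.isSpecial_of_hasSplitting hsP
  have hψlam : ∀ y, LamAt ψ y := fun y => by
    obtain ⟨p, rfl⟩ := AdjoinRoot.mk_surjective y
    induction p using Polynomial.induction_on' with
    | add p p' hp hp' => rw [map_add]; exact lamAt_add hp hp'
    | monomial i c =>
      induction i generalizing c with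
      | zero => rw [monomial_zero_left, AdjoinRoot.mk_C]; exact hof c
      | succ i ih => rw [← monomial_mul_X, map_mul, AdjoinRoot.mk_X]; exact lamAt_mul hspec hspP (ih c) hroot
  have hψaug : ∀ y, PP.aug (ψ y) = Pe.aug y := fun y => by
    obtain ⟨c, rfl⟩ := Lambda.exists_coeffs hmonic hdeg y
    rw [hψcoef, map_sum, map_sum, Finset.sum_range]
    refine Finset.sum_congr rfl fun i _ => ?_
    rw [map_mul, map_pow, map_mul, map_pow, hline.2, (Lambda.isExtension_ext hsX he).aug_comp,
      (Lambda.isLine_root_ext hsX he).2]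
    exact congrArg (· * _) (KRRReg.pull_aug hKP hKX hg _)
  have hψpos : ∀ y ∈ Pe.pos, ψ y ∈ PP.pos := fun y hy => by
    replace hy : Lambda.ExtPos PX e y := hy
    induction hy with
    | @of b hb =>
      rw [AdjoinRoot.lift_of]
      exact (isExtension_pull hKX hKP hg (fun x x' hxx' => by
        refine Lambda.of_injective_ext he (hψinj ?_)
        rw [AdjoinRoot.lift_of, AdjoinRoot.lift_of]
        exact hxx')).pos_subset b hb
    | root => rw [AdjoinRoot.lift_root]; exact hline.1
    | sub h2 =>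
      rw [map_sub, AdjoinRoot.lift_of, AdjoinRoot.lift_root]
      obtain ⟨F, hF, hEF⟩ := exists_quotient_line hP hE
      show g e - l ∈ PP.pos
      rw [show g e = φP (KRR.cl P F) + l by rw [he_def, hg E (ExtPowSh.flf_of_rank hE), hEF, map_add],
        add_sub_cancel_right]
      exact (hKP.mem_pos_iff _).2 ⟨r, F, by omega, hF, rfl⟩
    | add _ _ hx hy => rw [map_add]; exact PP.add_mem _ _ hx hy
    | mul _ _ hx hy => rw [map_mul]; exact PP.mul_mem _ _ hx hy
  have hext : LambdaRing.IsExtension Pe PP ψ := ⟨fun i y => hψlam y i, hψinj, hψaug, hψpos⟩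
  have hsplit : LambdaRing.HasSplitting (AdjoinRoot f) Pe := by
    obtain ⟨C, hC, hC'⟩ := hsP
    refine ⟨insert ⟨AdjoinRoot f, Pe⟩ C, Set.mem_insert _ _, fun L hL x hx => ?_⟩
    rcases Set.mem_insert_iff.1 hL with rfl | hL'
    · obtain ⟨L', hL'C, h, hh, s, hs, hsum⟩ := hC' ⟨KP, PP⟩ hC (ψ x) (hψpos x hx)
      exact ⟨L', Set.mem_insert_of_mem _ hL'C, h.comp ψ, Lambda.isExtension_comp hext hh, s, hs, hsum⟩
    · obtain ⟨L', hL'C, h⟩ := hC' L hL' x hx
      exact ⟨L', Set.mem_insert_of_mem _ hL'C, h⟩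
  let eψ := RingEquiv.ofBijective ψ ⟨hψinj, hψsurj⟩
  have hback : AdjoinRoot.of f a ∈ LambdaRing.gammaFiltration Pe k := by
    have hinv : ∀ z, ψ (eψ.symm z) = z := fun z => eψ.apply_symm_apply z
    have h := KRRReg.map_gammaFiltration (P := PP) (Q := Pe) eψ.symm.toRingHom
      (fun j z => hψinj (by
        show ψ (eψ.symm _) = ψ (LambdaRing.LambdaOps.lam j (eψ.symm z))
        rw [hψlam, hinv, hinv]))
      (fun z => by
        show Pe.aug (eψ.symm z) = PP.aug z
        rw [← hψaug, hinv]) k (show g a ∈ _ from ha)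
    have e2 : eψ.symm (g a) = AdjoinRoot.of f a :=
      eψ.symm_apply_eq.2 (AdjoinRoot.lift_of (x := a) hrel).symm
    exact e2 ▸ h
  rw [Lambda.gammaFiltration_ext_eq haug he (Lambda.isExtension_ext hsX he) (Lambda.isLine_root_ext hsX he) hsplit]
    at hback
  -- the constant coefficient in powers of `root - 1`
  suffices key' : ∀ z ∈ Lambda.extFilSup PX e k, ∃ p : KX[X], p.natDegree ≤ r ∧ AdjoinRoot.mk f p = z ∧
      p.eval 1 ∈ LambdaRing.gammaFiltration PX k by
    obtain ⟨p, hp, hpy, hp1⟩ := key' _ hback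
    have hdiff : AdjoinRoot.mk f (p - C a) = 0 := by rw [map_sub, AdjoinRoot.mk_C, hpy, sub_self]
    rw [AdjoinRoot.mk_eq_zero] at hdiff
    have hlow : (p - C a).natDegree ≤ r := (natDegree_sub_le _ _).trans (max_le hp (by simp))
    rcases subsingleton_or_nontrivial KX with h | h
    · rw [Subsingleton.elim a 0]; exact zero_mem _
    have hdf : r + 1 ≤ f.natDegree := le_natDegree_of_ne_zero (by
      show (KRR.extPoly PX e).coeff (r + 1) ≠ 0
      rw [KRR.extPoly, hN, finsetSum_coeff, Finset.sum_eq_single 0]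
      · simp [LambdaRing.LambdaOps.lam_zero]
      · intro i hi h0
        have := Finset.mem_range.1 hi
        rw [coeff_C_mul, coeff_X_pow, if_neg (by omega), mul_zero]
      · simp)
    have hz : p - C a = 0 := by
      by_contra hne
      exact hmonic.not_dvd_of_natDegree_lt hne (lt_of_le_of_lt hlow (by omega)) hdiff
    rw [sub_eq_zero.1 hz, eval_C] at hp1
    exact hp1
  intro z hz
  rw [Lambda.extFilSup] at hz
  induction hz using AddSubgroup.iSup_induction' with
  | hp i y hy =>
    by_cases hi : i ∈ Finset.range (PX.aug e).toNat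
    · rw [iSup_pos hi] at hy
      obtain ⟨b, hb, rfl⟩ := hy
      have hi' := Finset.mem_range.1 hi
      refine ⟨C b * (Polynomial.X - C 1) ^ i, ?_, ?_, ?_⟩
      · exact (natDegree_C_mul_le _ _).trans (by
          rcases subsingleton_or_nontrivial KX with h | h
          · rw [natDegree_of_subsingleton]; omega
          · rw [natDegree_pow' (by rw [(monic_X_sub_C (1 : KX)).leadingCoeff, one_pow]; exact one_ne_zero),
              natDegree_X_sub_C]
            omega)
      · simp only [map_mul, map_pow, map_sub, AdjoinRoot.mk_C, AdjoinRoot.mk_X, map_one]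
        rfl
      · rcases Nat.eq_zero_or_pos i with rfl | hpos
        · simpa using hb
        · simp [hpos.ne', zero_pow]
    · rw [iSup_neg hi, AddSubgroup.mem_bot] at hy
      exact ⟨0, by simp, by rw [map_zero, hy], by simp [zero_mem]⟩
  | h1 => exact ⟨0, by simp, by simp, by simp [zero_mem]⟩
  | hadd y y' _ _ hy hy' =>
    obtain ⟨p, hp, hpy, hp1⟩ := hy
    obtain ⟨p', hp', hpy', hp1'⟩ := hy'
    exact ⟨p + p', (natDegree_add_le _ _).trans (max_le hp hp'), by rw [map_add, hpy, hpy'],
      by rw [eval_add]; exact add_mem hp1 hp1'⟩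

end Groth.Agent.KPB
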