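import Groth.Agent.KPB.Reg
import Groth.Agent.KRRReg.LamPull
import Groth.Agent.ExtPowSh.Model
import Mathlib.Order.Filter.Germ.Basic
import Mathlib.Order.Filter.AtTopBot.Basic

/-!
# The Grothendieck group of a projective bundle is free over that of the base
-/

set_option autoImplicit false
set_option linter.style.haveILetI false
set_option linter.unusedSectionVars false
set_option backward.isDefEq.respectTransparency false
set_option backward.isDefEq.respectTransparency.types false
set_option maxHeartbeats 1000000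

universe v w u

open CategoryTheory CategoryTheory.Limits AlgebraicGeometry TopologicalSpace Opposite

attribute [-instance] CategoryTheory.catToReflQuiver

noncomputable section

namespace Groth.Agent.KPB

open Groth.Agent Groth.Agent.H23.PicMul KRRReg

variable {X P : Scheme.{u}} [IsNoetherian X] [IsNoetherian P] {π : P ⟶ X} {O1 : P.Modules} {r : ℕ}
  {ι : Type u} [Finite ι] {A : ι → Chart π O1 r} (hA : ∀ x : X, ∃ i, x ∈ (A i).V) (hL : PicF.IsInvertible O1)
  {KX : Type v} [CommRing KX] {φX : SGA6.Kvb X →+ KX}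
  {KP : Type w} [CommRing KP] {φP : SGA6.Kvb P →+ KP}

/-- The class of the direct image of a twist. -/
def fk (π : P ⟶ X) (O1 : P.Modules) (φX : SGA6.Kvb X →+ KX) (F : P.Modules) (k : ℕ) : KX :=
  φX (KRR.cl X ((Scheme.Modules.pushforward π).obj (twk O1 F k)))

/-- The classes of the direct images of the iterated syzygies. -/
def tc (π : P ⟶ X) (O1 : P.Modules) (φX : SGA6.Kvb X →+ KX) (F : P.Modules) (l : ℕ) : KX :=
  φX (KRR.cl X ((Scheme.Modules.pushforward π).obj (GsP π O1 F l)))

/-- The classes of the direct images of the powers of `O(1)`, zero in negative degrees. -/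
def S (π : P ⟶ X) (O1 : P.Modules) (φX : SGA6.Kvb X →+ KX) (k : ℤ) : KX :=
  if k < 0 then 0 else φX (KRR.cl X ((Scheme.Modules.pushforward π).obj (CohB1.tensorPow O1 k.toNat)))

theorem twk_zero (O1 F : P.Modules) : Nonempty (twk O1 F 0 ≅ F) :=
  cl_eq_iff.1 (by rw [cl_tensor, cl_tensorPow, pow_zero, mul_one])

section Push

include hA hL

theorem isFinLocFree_push_twk {F : P.Modules} (hF : Rg A F) (k : ℕ) :
    FlatMod.IsFinLocFree ((Scheme.Modules.pushforward π).obj (twk O1 F k)) :=
  isFinLocFree_push_pb hA (rg_tensor hA hL hF k)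

theorem fk_zero {F : P.Modules} (hF : Rg A F) :
    fk π O1 φX F 0 = φX (KRR.cl X ((Scheme.Modules.pushforward π).obj F)) :=
  congrArg φX (cl_iso ((Scheme.Modules.pushforward π).mapIso (twk_zero O1 F).some)
    (isFinLocFree_push_twk hA hL hF 0))

theorem rg_pullback {T : X.Modules} (hT : FlatMod.IsFinLocFree T) :
    Rg A ((Scheme.Modules.pullback π).obj T) := by
  refine ⟨KFlatLib.isFinLocFree_pullback π hT, fun i => ?_⟩
  exact isRegSheaf_of_iso r _ ((A i).α T)
    (isRegSheaf_pullback (QCoh.isQCoh_of_isFinLocFree (KFlatLib.isFinLocFree_pullback (A i).V.ι hT)))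

theorem fk_pullback (hKX : IsRingModel X KX φX) {T : X.Modules} (hT : FlatMod.IsFinLocFree T) (k : ℕ) :
    fk π O1 φX ((Scheme.Modules.pullback π).obj T) k =
      φX (KRR.cl X T) * S π O1 φX (k : ℤ) := by
  have hk := isFinLocFree_push_pb hA (rg_twk hA hL k)
  obtain ⟨e⟩ := push_tensor_iso (π := π) (G := CohB1.tensorPow O1 k) hT
  rw [S, if_neg (by omega), Int.toNat_natCast, hKX.map_mul T _ hT hk, fk]
  exact congrArg φX (cl_iso e (isFinLocFree_push_twk hA hL (rg_pullback hA hL hT) k))

/-- One step of the recursion. -/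
theorem fk_succ (hKX : IsRingModel X KX φX) {F : P.Modules} (hF : Rg A F) (k : ℕ) :
    fk π O1 φX F (k + 1) = φX (KRR.cl X ((Scheme.Modules.pushforward π).obj F)) * S π O1 φX ((k + 1 : ℕ) : ℤ) -
      fk π O1 φX (CohB1.tensorMod (syzP π F) O1) k := by
  haveI := AmpleVan.isEquivalence_tw (InvX.isInvertible_tensorPow hL (k + 1))
  let T := (shortExact_syzP hA hF)
  let R := ShortComplex.mk (kernel.ι ((Scheme.Modules.pullbackPushforwardAdjunction π).counit.app F))
      ((Scheme.Modules.pullbackPushforwardAdjunction π).counit.app F) (kernel.condition _)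
  have hR : (R.map (AmpleVan.tw (CohB1.tensorPow O1 (k + 1)))).ShortExact := T.map_of_exact _
  have e : Nonempty (twk O1 (CohB1.tensorMod (syzP π F) O1) k ≅ twk O1 (syzP π F) (k + 1)) :=
    cl_eq_iff.1 (by rw [cl_tensor, cl_tensor, cl_tensor, cl_tensorPow, cl_tensorPow, mul_assoc, ← pow_succ'])
  have r1 : Rg A (twk O1 (syzP π F) (k + 1)) := rg_iso e.some (rg_tensor hA hL (rg_syzP hA hL hF) k)
  have hpush := isFinLocFree_push_pb hA hF
  have r2 := rg_tensor hA hL (rg_pullback hA hL hpush) (k + 1)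
  have r3 := rg_tensor hA hL hF (k + 1)
  have hS := shortExact_push_pb hA hR r1 r2 r3
  have h := KZ.clSub_ses (KRR.vbP X) hS (isFinLocFree_push_pb hA r1) (isFinLocFree_push_pb hA r2)
    (isFinLocFree_push_pb hA r3)
  have h' : fk π O1 φX ((Scheme.Modules.pullback π).obj ((Scheme.Modules.pushforward π).obj F)) (k + 1) =
      fk π O1 φX (syzP π F) (k + 1) + fk π O1 φX F (k + 1) :=
    (congrArg φX h).trans (map_add φX _ _)
  rw [fk_pullback hA hL hKX hpush] at h'
  have h1 : fk π O1 φX (CohB1.tensorMod (syzP π F) O1) k = fk π O1 φX (syzP π F) (k + 1) :=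
    congrArg φX (cl_iso ((Scheme.Modules.pushforward π).mapIso e.some)
      (isFinLocFree_push_twk hA hL (rg_syzP hA hL hF) k))
  rw [h', h1]
  ring

/-- The last syzygy comes from the base. -/
theorem fk_last (hKX : IsRingModel X KX φX) {F : P.Modules} (hF : Rg A F) (k : ℕ) :
    fk π O1 φX (GsP π O1 F r) k = tc π O1 φX F r * S π O1 φX (k : ℤ) := by
  have hG := rg_GsP hA hL hF r
  haveI : IsIso ((Scheme.Modules.pullbackPushforwardAdjunction π).counit.app (GsP π O1 F r)) := by
    haveI := epi_counit_pb hA hG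
    haveI : Mono ((Scheme.Modules.pullbackPushforwardAdjunction π).counit.app (GsP π O1 F r)) :=
      Preadditive.mono_of_isZero_kernel _ (isZero_syzP_last hA hL hF)
    exact isIso_of_mono_of_epi _
  let e := asIso ((Scheme.Modules.pullbackPushforwardAdjunction π).counit.app (GsP π O1 F r))
  have hp := isFinLocFree_push_pb hA hG
  rw [tc, ← fk_pullback hA hL hKX hp]
  exact (congrArg φX (cl_iso ((Scheme.Modules.pushforward π).mapIso ((AmpleVan.tw _).mapIso e))
    (isFinLocFree_push_twk hA hL (rg_pullback hA hL hp) k))).symm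

/-- The direct images of the twists in terms of those of the powers of `O(1)`. -/
theorem fk_formula (hKX : IsRingModel X KX φX) (hS0 : S π O1 φX 0 = 1) {F : P.Modules} (hF : Rg A F) :
    ∀ (d l : ℕ), l + d = r → ∀ k : ℕ, fk π O1 φX (GsP π O1 F l) k =
      ∑ m ∈ Finset.range (d + 1), (-1 : KX) ^ m * tc π O1 φX F (l + m) * S π O1 φX ((k : ℤ) - m)
  | 0, l, hl, k => by
    obtain rfl : l = r := hl
    rw [Finset.sum_range_one, fk_last hA hL hKX hF, pow_zero, one_mul, Nat.add_zero, Nat.cast_zero, sub_zero]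
  | d + 1, l, hl, 0 => by
    rw [fk_zero hA hL (rg_GsP hA hL hF l), Finset.sum_eq_single 0]
    · rw [pow_zero, one_mul, Nat.add_zero, Nat.cast_zero, sub_zero, hS0, mul_one]; rfl
    · intro m _ hm
      rw [S, if_pos (by omega), mul_zero]
    · simp
  | d + 1, l, hl, k + 1 => by
    rw [fk_succ hA hL hKX (rg_GsP hA hL hF l)]
    rw [show CohB1.tensorMod (syzP π (GsP π O1 F l)) O1 = GsP π O1 F (l + 1) from rfl,
      fk_formula hKX hS0 hF d (l + 1) (by omega) k, Finset.sum_range_succ' _ (d + 1), sub_eq_add_neg, add_comm]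
    congr 1
    · rw [← Finset.sum_neg_distrib]
      refine Finset.sum_congr rfl fun m _ => ?_
      rw [show l + (m + 1) = l + 1 + m by omega,
        show ((k + 1 : ℕ) : ℤ) - ((m + 1 : ℕ) : ℤ) = (k : ℤ) - m by omega, pow_succ]
      ring
    · rw [pow_zero, one_mul, Nat.add_zero, Nat.cast_zero, sub_zero]; rfl

theorem rg_O1 : Rg A O1 := by
  refine rg_iso (cl_eq_iff.1 ?_).some (rg_twk hA hL 1)
  rw [cl_tensorPow, pow_one]

theorem fk_O1 (k : ℕ) : fk π O1 φX O1 k = S π O1 φX ((k + 1 : ℕ) : ℤ) := by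
  rw [S, if_neg (by omega), Int.toNat_natCast, fk]
  refine congrArg φX (cl_iso ((Scheme.Modules.pushforward π).mapIso (cl_eq_iff.1 ?_).some)
    (isFinLocFree_push_twk hA hL (rg_O1 hA hL) k))
  rw [cl_tensor, cl_tensorPow, cl_tensorPow, pow_succ']

/-- The recursion. -/
theorem S_succ (hKX : IsRingModel X KX φX) (hS0 : S π O1 φX 0 = 1) (n : ℤ) (hn : 0 ≤ n) :
    S π O1 φX (n + 1) =
      ∑ m ∈ Finset.range (r + 1), (-1 : KX) ^ m * tc π O1 φX O1 m * S π O1 φX (n - m) := by
  obtain ⟨k, rfl⟩ := Int.eq_ofNat_of_zero_le hn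
  have h := fk_formula hA hL hKX hS0 (rg_O1 hA hL) r 0 (Nat.zero_add r) k
  rw [show GsP π O1 O1 0 = O1 from rfl, fk_O1 hA hL] at h
  simp only [Nat.zero_add] at h
  exact h

theorem S_zero (hKX : IsRingModel X KX φX) (hu : IsUnit (tc π O1 φX O1 r)) : S π O1 φX 0 = 1 := by
  have h := fk_last hA hL (φX := φX) hKX (rg_O1 hA hL) 0
  rw [fk_zero hA hL (rg_GsP hA hL (rg_O1 hA hL) r), Nat.cast_zero] at h
  exact hu.mul_left_cancel (h.symm.trans (mul_one _).symm)

/-- Classes of regular bundles. -/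
theorem class_regular (hKP : IsRingModel P KP φP) {g : KX →+ KP} (hg : KRR.IsPull π φX φP g) {w : KP}
    (hw : w * φP (KRR.cl P O1) = 1) {F : P.Modules} (hF : Rg A F) :
    ∀ (d l : ℕ), l + d = r → φP (KRR.cl P (GsP π O1 F l)) =
      ∑ m ∈ Finset.range (d + 1), g (tc π O1 φX F (l + m)) * (-w) ^ m
  | 0, l, hl => by
    obtain rfl : l = r := hl
    have hG := rg_GsP hA hL hF l
    haveI : IsIso ((Scheme.Modules.pullbackPushforwardAdjunction π).counit.app (GsP π O1 F l)) := by
      haveI := epi_counit_pb hA hG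
      haveI : Mono ((Scheme.Modules.pullbackPushforwardAdjunction π).counit.app (GsP π O1 F l)) :=
        Preadditive.mono_of_isZero_kernel _ (isZero_syzP_last hA hL hF)
      exact isIso_of_mono_of_epi _
    have hp := isFinLocFree_push_pb hA hG
    rw [Finset.sum_range_one, pow_zero, mul_one, tc, Nat.add_zero, hg _ hp]
    exact (congrArg φP (cl_iso (asIso ((Scheme.Modules.pullbackPushforwardAdjunction π).counit.app _))
      (KFlatLib.isFinLocFree_pullback π hp))).symm
  | d + 1, l, hl => by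
    have hG := rg_GsP hA hL hF l
    have hsy := isFinLocFree_syzP hA hG
    have hp := isFinLocFree_push_pb hA hG
    have h := congrArg φP (KZ.clSub_ses (KRR.vbP P) (shortExact_syzP hA hG) hsy
      (KFlatLib.isFinLocFree_pullback π hp) hG.1)
    rw [map_add] at h
    have hnext : φP (KRR.cl P (GsP π O1 F (l + 1))) = φP (KRR.cl P (syzP π (GsP π O1 F l))) * φP (KRR.cl P O1) :=
      (hKP.map_mul _ _ hsy (H23.PullPush.isFinLocFree_of_isInvertible hL)).symm
    have hs : φP (KRR.cl P (syzP π (GsP π O1 F l))) = w * φP (KRR.cl P (GsP π O1 F (l + 1))) := by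
      rw [hnext, mul_left_comm, hw, mul_one]
    replace h : g (tc π O1 φX F l) = w * φP (KRR.cl P (GsP π O1 F (l + 1))) + φP (KRR.cl P (GsP π O1 F l)) := by
      rw [← hs, tc, hg _ hp]
      exact h
    rw [eq_sub_of_add_eq' h.symm, class_regular hKP hg hw hF d (l + 1) (by omega), Finset.sum_range_succ' _ (d + 1),
      sub_eq_add_neg, add_comm]
    congr 1
    · rw [Finset.mul_sum, ← Finset.sum_neg_distrib]
      refine Finset.sum_congr rfl fun m _ => ?_
      rw [show l + (m + 1) = l + 1 + m by omega, pow_succ]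
      ring
    · rw [pow_zero, mul_one, Nat.add_zero]

/-- Generation by the powers of the inverse of `O(1)`. -/
theorem mem_span_powers (hKP : IsRingModel P KP φP) (G : KX →+* KP) (hg : KRR.IsPull π φX φP G.toAddMonoidHom)
    {w : KP} (hw : w * φP (KRR.cl P O1) = 1) (hu : IsUnit (tc π O1 φX O1 r)) (x : KP) :
    ∃ a : Fin (r + 1) → KX, x = ∑ i : Fin (r + 1), G (a i) * w ^ (i : ℕ) := by
  classical
  letI := G.toAlgebra
  let M : Submodule KX KP := Submodule.span KX (Set.range fun i : Fin (r + 1) => w ^ (i : ℕ))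
  have hgen : ∀ i : ℕ, i ≤ r → w ^ i ∈ M := fun i hi => Submodule.subset_span ⟨⟨i, by omega⟩, rfl⟩
  have hmul : ∀ (a : KX) (z : KP), G a * z = a • z := fun a z => (Algebra.smul_def a z).symm
  have hterm : ∀ (a : KX) (m : ℕ), m ≤ r → G a * (-w) ^ m ∈ M := fun a m hm => by
    rw [neg_pow, ← mul_assoc, mul_comm (G a), mul_assoc, hmul]
    rcases neg_one_pow_eq_or KP m with h | h <;> rw [h]
    · rw [one_mul]; exact M.smul_mem _ (hgen m hm)
    · rw [neg_one_mul]; exact M.neg_mem (M.smul_mem _ (hgen m hm))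
  have htop : w ^ (r + 1) ∈ M := by
    have h := class_regular hA hL hKP hg hw (rg_O1 hA hL) r 0 (Nat.zero_add r)
    rw [show GsP π O1 O1 0 = O1 from rfl, Finset.sum_range_succ] at h
    simp only [Nat.zero_add] at h
    replace h := congrArg (w * ·) h
    beta_reduce at h
    rw [hw, mul_add, Finset.mul_sum] at h
    have hlast : w * (G (tc π O1 φX O1 r) * (-w) ^ r) ∈ M := by
      have e := eq_sub_of_add_eq' h.symm
      refine (?_ : w * (G (tc π O1 φX O1 r) * (-w) ^ r) ∈ M)
      show w * (G.toAddMonoidHom (tc π O1 φX O1 r) * (-w) ^ r) ∈ M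
      rw [e]
      refine M.sub_mem ?_ (M.sum_mem fun m hm => ?_)
      · simpa using hgen 0 (Nat.zero_le r)
      · have := Finset.mem_range.1 hm
        show w * (G _ * (-w) ^ m) ∈ M
        rw [show w * (G (tc π O1 φX O1 m) * (-w) ^ m) = -(G (tc π O1 φX O1 m) * (-w) ^ (m + 1)) by rw [pow_succ]; ring]
        exact M.neg_mem (hterm _ _ (by omega))
    obtain ⟨t', ht'⟩ := hu.exists_left_inv
    have key : w ^ (r + 1) = (-1 : KP) ^ r * (G t' * (w * (G (tc π O1 φX O1 r) * (-w) ^ r))) := by
      have h1 : G t' * G (tc π O1 φX O1 r) = 1 := by rw [← map_mul, ht', map_one]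
      have h2 : (-1 : KP) ^ r * (-1 : KP) ^ r = 1 := by rw [← mul_pow, neg_one_mul, neg_neg, one_pow]
      calc w ^ (r + 1) = ((-1 : KP) ^ r * (-1 : KP) ^ r) * ((G t' * G (tc π O1 φX O1 r)) * w ^ (r + 1)) := by
            rw [h1, h2, one_mul, one_mul]
        _ = _ := by rw [neg_pow w r, pow_succ]; ring
    rw [key]
    rcases neg_one_pow_eq_or KP r with h' | h' <;> rw [h']
    · rw [one_mul, hmul]; exact M.smul_mem _ hlast
    · rw [neg_one_mul, hmul]; exact M.neg_mem (M.smul_mem _ hlast)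
  have hwM : ∀ z ∈ M, w * z ∈ M := fun z hz => by
    induction hz using Submodule.span_induction with
    | mem y hy =>
      obtain ⟨i, rfl⟩ := hy
      show w * w ^ (i : ℕ) ∈ M
      rw [← pow_succ']
      rcases Nat.lt_or_ge (i : ℕ) r with h | h
      · exact hgen _ h
      · rw [show (i : ℕ) + 1 = r + 1 by omega]; exact htop
    | zero => rw [mul_zero]; exact M.zero_mem
    | add a b _ _ ha hb => rw [mul_add]; exact M.add_mem ha hb
    | smul a y _ hy => rw [mul_smul_comm]; exact M.smul_mem a hy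
  have hpow : ∀ (m : ℕ), ∀ z ∈ M, w ^ m * z ∈ M := fun m => by
    induction m with
    | zero => intro z hz; rwa [pow_zero, one_mul]
    | succ m ih => intro z hz; rw [pow_succ', mul_assoc]; exact hwM _ (ih z hz)
  have hbundle : ∀ F : P.Modules, FlatMod.IsFinLocFree F → φP (KRR.cl P F) ∈ M := fun F hF => by
    obtain ⟨m, hm⟩ := exists_rg_bound hA hL hF
    have hr := hm m le_rfl
    have hcl : φP (KRR.cl P F) = w ^ m * φP (KRR.cl P (twk O1 F m)) := by
      have hp : ∀ k : ℕ, φP (KRR.cl P (CohB1.tensorPow O1 k)) = φP (KRR.cl P O1) ^ k := fun k => by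
        induction k with
        | zero => rw [pow_zero]; exact hKP.map_one
        | succ k ih =>
          rw [pow_succ, ← ih, hKP.map_mul _ _ (KRRReg.isFinLocFree_tensorPow hL k)
            (H23.PullPush.isFinLocFree_of_isInvertible hL)]
          rfl
      rw [show φP (KRR.cl P (twk O1 F m)) = φP (KRR.cl P F) * φP (KRR.cl P (CohB1.tensorPow O1 m)) from
        (hKP.map_mul _ _ hF (KRRReg.isFinLocFree_tensorPow hL m)).symm, hp, mul_left_comm, ← mul_pow, hw, one_pow,
        mul_one]
    rw [hcl]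
    refine hpow m _ ?_
    have h := class_regular hA hL hKP hg hw hr r 0 (Nat.zero_add r)
    rw [show GsP π O1 (twk O1 F m) 0 = twk O1 F m from rfl] at h
    rw [h]
    exact M.sum_mem fun l hl => hterm _ _ (by have := Finset.mem_range.1 hl; omega)
  have hall : ∀ y : SGA6.Kvb P, φP y ∈ M := by
    let q := M.toAddSubgroup
    have h0 : (QuotientAddGroup.mk' q).comp φP = 0 := KZ.K0sub_hom_ext (KRR.vbP P) fun F hF => by
      exact (QuotientAddGroup.eq_zero_iff _).2 (hbundle F hF)
    exact fun y => (QuotientAddGroup.eq_zero_iff _).1 (DFunLike.congr_fun h0 y)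
  obtain ⟨y, rfl⟩ := hKP.bijective.2 x
  obtain ⟨c, hc⟩ := (Submodule.mem_span_range_iff_exists_fun _).1 (hall y)
  exact ⟨c, hc.symm.trans (Finset.sum_congr rfl fun i _ => (hmul (c i) _).symm)⟩

/-- The asymptotic direct images. -/
theorem exists_germHom :
    ∃ Φ : SGA6.Kvb P →+ (Filter.atTop : Filter ℕ).Germ KX, ∀ F, FlatMod.IsFinLocFree F →
      Φ (KRR.cl P F) = ((fun k => fk π O1 φX F k : ℕ → KX) : (Filter.atTop : Filter ℕ).Germ KX) :=
  KZ.exists_liftSub (KRR.vbP P) (fun F => ((fun k => fk π O1 φX F k : ℕ → KX) : (Filter.atTop : Filter ℕ).Germ KX))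
    fun S' hS h₁ h₂ h₃ => by
      obtain ⟨m₁, e₁⟩ := exists_rg_bound hA hL h₁
      obtain ⟨m₂, e₂⟩ := exists_rg_bound hA hL h₂
      obtain ⟨m₃, e₃⟩ := exists_rg_bound hA hL h₃
      rw [← Filter.Germ.coe_add, Filter.Germ.coe_eq]
      refine Filter.eventually_atTop.2 ⟨m₁ + m₂ + m₃, fun k hk => ?_⟩
      haveI := AmpleVan.isEquivalence_tw (InvX.isInvertible_tensorPow hL k)
      have hR : (S'.map (AmpleVan.tw (CohB1.tensorPow O1 k))).ShortExact := hS.map_of_exact _
      have r1 := e₁ k (by omega)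
      have r2 := e₂ k (by omega)
      have r3 := e₃ k (by omega)
      exact (congrArg φX (KZ.clSub_ses (KRR.vbP X) (shortExact_push_pb hA hR r1 r2 r3)
        (isFinLocFree_push_pb hA r1) (isFinLocFree_push_pb hA r2) (isFinLocFree_push_pb hA r3))).trans (map_add φX _ _)

theorem germ_apply (hKX : IsRingModel X KX φX) (hKP : IsRingModel P KP φP) {g : KX →+ KP}
    (hg : KRR.IsPull π φX φP g) :
    ∃ Ψ : KP →+ (Filter.atTop : Filter ℕ).Germ KX, ∀ (b : KX) (N : ℕ),
      Ψ (g b * φP (KRR.cl P O1) ^ N) =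
        ((fun k => b * S π O1 φX ((N + k : ℕ) : ℤ) : ℕ → KX) : (Filter.atTop : Filter ℕ).Germ KX) := by
  obtain ⟨Φ, hΦ⟩ := exists_germHom hA hL (φX := φX)
  let eP := AddEquiv.ofBijective φP hKP.bijective
  refine ⟨Φ.comp eP.symm.toAddMonoidHom, fun b N => ?_⟩
  obtain ⟨y, rfl⟩ := hKX.bijective.2 b
  let L₁ : SGA6.Kvb X →+ (Filter.atTop : Filter ℕ).Germ KX :=
    (Φ.comp eP.symm.toAddMonoidHom).comp ((AddMonoidHom.mulRight (φP (KRR.cl P O1) ^ N)).comp (g.comp φX))
  let L₂ : SGA6.Kvb X →+ (Filter.atTop : Filter ℕ).Germ KX :=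
    AddMonoidHom.mk' (fun z => ((fun k => φX z * S π O1 φX ((N + k : ℕ) : ℤ) : ℕ → KX) :
      (Filter.atTop : Filter ℕ).Germ KX)) fun a b => by
        rw [← Filter.Germ.coe_add]
        exact congrArg _ (funext fun k => by simp [map_add, add_mul])
  refine DFunLike.congr_fun (KZ.K0sub_hom_ext (KRR.vbP X) (f := L₁) (g := L₂) fun T hT => ?_) y
  let F := twk O1 ((Scheme.Modules.pullback π).obj T) N
  have hrg := rg_tensor hA hL (rg_pullback hA hL hT) N
  have hp : ∀ k : ℕ, φP (KRR.cl P (CohB1.tensorPow O1 k)) = φP (KRR.cl P O1) ^ k := fun k => by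
    induction k with
    | zero => rw [pow_zero]; exact hKP.map_one
    | succ k ih =>
      rw [pow_succ, ← ih, hKP.map_mul _ _ (KRRReg.isFinLocFree_tensorPow hL k)
        (H23.PullPush.isFinLocFree_of_isInvertible hL)]
      rfl
  have hcl : g (φX (KRR.cl X T)) * φP (KRR.cl P O1) ^ N = eP (KRR.cl P F) := by
    rw [hg T hT, ← hp, hKP.map_mul _ _ (KFlatLib.isFinLocFree_pullback π hT) (KRRReg.isFinLocFree_tensorPow hL N)]
    rfl
  show Φ (eP.symm (g (φX (KRR.cl X T)) * φP (KRR.cl P O1) ^ N)) = _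
  rw [hcl, eP.symm_apply_apply, hΦ F hrg.1]
  refine congrArg _ (funext fun k => ?_)
  show fk π O1 φX F k = φX (KRR.cl X T) * S π O1 φX ((N + k : ℕ) : ℤ)
  rw [← fk_pullback hA hL hKX hT]
  refine congrArg φX (cl_iso ((Scheme.Modules.pushforward π).mapIso (cl_eq_iff.1 ?_).some)
    (isFinLocFree_push_twk hA hL hrg k))
  show PicF.cl (twk O1 (twk O1 ((Scheme.Modules.pullback π).obj T) N) k) = _
  rw [cl_tensor, cl_tensor, cl_tensor, cl_tensorPow, cl_tensorPow, cl_tensorPow, mul_assoc, ← pow_add]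

/-- Independence of the powers of `O(1)`. -/
theorem injective_powers (hKX : IsRingModel X KX φX) (hKP : IsRingModel P KP φP) {g : KX →+ KP}
    (hg : KRR.IsPull π φX φP g) (hu : IsUnit (tc π O1 φX O1 r)) :
    Function.Injective (fun a : Fin (r + 1) → KX => ∑ i : Fin (r + 1), g (a i) * φP (KRR.cl P O1) ^ (i : ℕ)) := by
  have hS0 := S_zero hA hL hKX hu
  have hker : ∀ b : Fin (r + 1) → KX, ∑ i : Fin (r + 1), g (b i) * φP (KRR.cl P O1) ^ (i : ℕ) = 0 → b = 0 := by
    intro b hb
    obtain ⟨Ψ, hΨ⟩ := germ_apply hA hL hKX hKP hg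
    let τ : ℤ → KX := fun k => ∑ i : Fin (r + 1), b i * S π O1 φX ((i : ℕ) + k)
    have hev : ∀ᶠ k : ℕ in Filter.atTop, τ k = 0 := by
      have h := congrArg Ψ hb
      rw [map_sum, map_zero] at h
      simp only [hΨ] at h
      let coeHom : (ℕ → KX) →+ (Filter.atTop : Filter ℕ).Germ KX :=
        AddMonoidHom.mk' (fun f => (f : (Filter.atTop : Filter ℕ).Germ KX)) fun _ _ => rfl
      have h' : coeHom (∑ i : Fin (r + 1), fun k : ℕ => b i * S π O1 φX (((i : ℕ) + k : ℕ) : ℤ)) = coeHom 0 := by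
        rw [map_sum, map_zero]
        exact h
      refine (Filter.Germ.coe_eq.1 h').mono fun k hk => ?_
      simpa [τ, Finset.sum_apply] using hk
    have hrec : ∀ n : ℤ, 0 ≤ n → τ (n + 1) =
        ∑ m ∈ Finset.range (r + 1), (-1 : KX) ^ m * tc π O1 φX O1 m * τ (n - m) := fun n hn => by
      simp only [τ, Finset.mul_sum]
      rw [Finset.sum_comm]
      refine Finset.sum_congr rfl fun i _ => ?_
      rw [show ((i : ℕ) : ℤ) + (n + 1) = ((i : ℕ) : ℤ) + n + 1 by ring, S_succ hA hL hKX hS0 _ (by omega),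
        Finset.mul_sum]
      refine Finset.sum_congr rfl fun m _ => ?_
      rw [show ((i : ℕ) : ℤ) + n - m = (i : ℕ) + (n - m) by ring]
      ring
    obtain ⟨K, hK⟩ := Filter.eventually_atTop.1 hev
    have hdown : ∀ (d : ℕ) (m : ℤ), -(r : ℤ) ≤ m → (K : ℤ) ≤ m + d → τ m = 0 := by
      intro d
      induction d using Nat.strong_induction_on with
      | _ d ih =>
        intro m hm hmd
        by_cases hmK : (K : ℤ) ≤ m
        · obtain ⟨k, rfl⟩ := Int.eq_ofNat_of_zero_le (show 0 ≤ m by omega)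
          exact hK k (by omega)
        · have hz : ∀ j : ℤ, m < j → τ j = 0 := fun j hj => by
            by_cases hjK : (K : ℤ) ≤ j
            · exact ih 0 (by omega) j (by omega) (by omega)
            · exact ih (d - 1) (by omega) j (by omega) (by omega)
          have h := hrec (m + r) (by omega)
          rw [hz _ (by omega), Finset.sum_range_succ, Finset.sum_eq_zero, zero_add, add_sub_cancel_right] at h
          · exact (IsUnit.mul_right_eq_zero (((isUnit_one.neg).pow r).mul hu)).1 h.symm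
          · intro j hj
            have := Finset.mem_range.1 hj
            rw [hz _ (by omega), mul_zero]
    have hz : ∀ m : ℤ, -(r : ℤ) ≤ m → τ m = 0 := fun m hm => hdown (K + r) m hm (by omega)
    suffices ∀ (d : ℕ) (i : Fin (r + 1)), r ≤ (i : ℕ) + d → b i = 0 from
      funext fun i => this r i (Nat.le_add_left _ _)
    intro d
    induction d with
    | zero =>
      intro i hi
      have h := hz (-(i : ℕ)) (by omega)
      simp only [τ] at h
      rw [Finset.sum_eq_single i] at h
      · rwa [show ((i : ℕ) : ℤ) + -(i : ℕ) = 0 by ring, hS0, mul_one] at h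
      · intro j _ hj
        have : (j : ℕ) ≠ i := fun e => hj (Fin.ext e)
        rw [S, if_pos (by omega), mul_zero]
      · simp
    | succ d ih =>
      intro i hi
      have h := hz (-(i : ℕ)) (by omega)
      simp only [τ] at h
      rw [Finset.sum_eq_single i] at h
      · rwa [show ((i : ℕ) : ℤ) + -(i : ℕ) = 0 by ring, hS0, mul_one] at h
      · intro j _ hj
        have : (j : ℕ) ≠ i := fun e => hj (Fin.ext e)
        rcases Nat.lt_or_ge (j : ℕ) (i : ℕ) with hlt | hge
        · rw [S, if_pos (by omega), mul_zero]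
        · rw [ih j (by omega), zero_mul]
      · simp
  intro a a' h
  refine sub_eq_zero.1 (hker (a - a') ?_)
  simp only [Pi.sub_apply, map_sub, sub_mul, Finset.sum_sub_distrib]
  exact sub_eq_zero.2 h

end Push

end Groth.Agent.KPB
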