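import Groth.Agent.KPB.Free
import Mathlib.RingTheory.PowerSeries.WellKnown

/-!
# Models of the Grothendieck ring of a projective bundle
-/

set_option autoImplicit false
set_option linter.style.haveILetI false
set_option linter.unusedSectionVars false
set_option backward.isDefEq.respectTransparency false
set_option backward.isDefEq.respectTransparency.types false
set_option maxHeartbeats 1000000

universe v u

open CategoryTheory CategoryTheory.Limits AlgebraicGeometry TopologicalSpace Opposite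

attribute [-instance] CategoryTheory.catToReflQuiver

noncomputable section

namespace Groth.Agent.KPB

open Groth.Agent Groth.Agent.H23.PicMul KRRReg

theorem coeff_one_sub_X_pow : ∀ n : ℕ, PowerSeries.coeff n ((1 - PowerSeries.X : PowerSeries ℤ) ^ n) = (-1) ^ n ∧
    ∀ m, n < m → PowerSeries.coeff m ((1 - PowerSeries.X : PowerSeries ℤ) ^ n) = 0
  | 0 => ⟨by simp, fun m hm => by
      obtain ⟨k, rfl⟩ := Nat.exists_eq_add_of_le' hm
      simp⟩
  | n + 1 => by
    obtain ⟨h1, h2⟩ := coeff_one_sub_X_pow n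
    constructor
    · rw [pow_succ, mul_sub, mul_one, map_sub, PowerSeries.coeff_succ_mul_X, h1, h2 _ (Nat.lt_succ_self n), pow_succ]
      ring
    · intro m hm
      obtain ⟨k, rfl⟩ : ∃ k, m = k + 1 := ⟨m - 1, by omega⟩
      rw [pow_succ, mul_sub, mul_one, map_sub, PowerSeries.coeff_succ_mul_X, h2 _ (by omega), h2 _ (by omega), sub_zero]

/-- The recursion of the numbers `C(r + k, r)` has last coefficient one. -/
theorem last_coeff (r : ℕ) (a : ℕ → ℤ) (H : ℤ → ℤ) (hneg : ∀ k, k < 0 → H k = 0)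
    (hH : ∀ k : ℕ, H k = (Nat.choose (r + k) r : ℤ))
    (hrec : ∀ n : ℤ, 0 ≤ n → H (n + 1) = ∑ m ∈ Finset.range (r + 1), (-1 : ℤ) ^ m * a m * H (n - m)) :
    a r = 1 := by
  let h : PowerSeries ℤ := PowerSeries.mk fun n => (Nat.choose (r + n) r : ℤ)
  let B : PowerSeries ℤ :=
    1 - ∑ m ∈ Finset.range (r + 1), PowerSeries.C ((-1 : ℤ) ^ m * a m) * PowerSeries.X ^ (m + 1)
  have hc : ∀ n, PowerSeries.coeff n h = H n := fun n => by rw [PowerSeries.coeff_mk, hH]
  have hBh : B * h = 1 := by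
    refine PowerSeries.ext fun n => ?_
    rw [sub_mul, one_mul, Finset.sum_mul, map_sub, map_sum]
    simp only [mul_assoc, PowerSeries.coeff_C_mul, PowerSeries.coeff_X_pow_mul']
    rcases n with _ | k
    · rw [Finset.sum_eq_zero fun m _ => by rw [if_neg (by omega), mul_zero, mul_zero], hc, hH]
      simp
    · rw [hc, Nat.cast_succ, hrec (k : ℤ) (Int.natCast_nonneg k), PowerSeries.coeff_one, if_neg (by omega),
        ← Finset.sum_sub_distrib]
      refine Finset.sum_eq_zero fun m _ => ?_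
      by_cases hm : m + 1 ≤ k + 1
      · rw [if_pos hm, hc, show (((k + 1 - (m + 1) : ℕ)) : ℤ) = (k : ℤ) - m by omega]
        ring
      · rw [if_neg hm, hneg _ (by omega)]
        ring
  have hB : B = (1 - PowerSeries.X) ^ (r + 1) := by
    have e1 : (PowerSeries.invOneSubPow ℤ (r + 1)).val = h := PowerSeries.invOneSubPow_val_succ_eq_mk_add_choose ℤ r
    have e2 := (PowerSeries.invOneSubPow ℤ (r + 1)).val_inv
    rw [e1, PowerSeries.invOneSubPow_inv_eq_one_sub_pow] at e2
    exact left_inv_eq_right_inv hBh e2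
  have h3 := congrArg (PowerSeries.coeff (r + 1)) hB
  rw [(coeff_one_sub_X_pow (r + 1)).1, map_sub, map_sum, PowerSeries.coeff_one, if_neg (by omega),
    Finset.sum_eq_single r, PowerSeries.coeff_C_mul, PowerSeries.coeff_X_pow, if_pos rfl, pow_succ] at h3
  · rcases neg_one_pow_eq_or ℤ r with e | e <;> rw [e] at h3 <;> linarith
  · intro m _ hm
    rw [PowerSeries.coeff_C_mul, PowerSeries.coeff_X_pow, if_neg (by omega), mul_zero]
  · simp

variable {X P : Scheme.{u}} [IsNoetherian X] [ConnectedSpace ↥X] [IsNoetherian P] [ConnectedSpace ↥P]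
  {π : P ⟶ X} {O1 : P.Modules} {r : ℕ}

theorem exists_atlas {E : X.Modules} {q : (Scheme.Modules.pullback π).obj E ⟶ O1}
    (hP : KRR.IsProjBundle π E O1 q) (hE : FlatMod.IsFinLocFreeOfRank (r + 1) E) :
    ∃ (ι : Type u) (_ : Finite ι) (A : ι → Chart π O1 r), ∀ x : X, ∃ i, x ∈ (A i).V := by
  choose c hc using fun x => exists_chart hP hE x
  obtain ⟨t, ht⟩ := isCompact_univ.elim_finite_subcover (fun x : ↥X => ((c x).V : Set ↥X))
    (fun x => (c x).V.isOpen) fun x _ => Set.mem_iUnion.2 ⟨x, hc x⟩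
  refine ⟨t, inferInstance, fun i => c i.1, fun x => ?_⟩
  obtain ⟨i, hit, hi⟩ := Set.mem_iUnion₂.1 (ht (Set.mem_univ x))
  exact ⟨⟨i, hit⟩, hi⟩

variable {KX : Type v} [CommRing KX] [LambdaRing.LambdaOps KX] {PX : LambdaRing.PosStructure KX}
  {φX : SGA6.Kvb X →+ KX}

omit [AlgebraicGeometry.IsNoetherian P] [ConnectedSpace ↥P] in
theorem isUnit_of_aug_one (hKX : KRR.IsModel X KX PX φX) {M : X.Modules} (hM : FlatMod.IsFinLocFree M)
    (h : PX.aug (φX (KRR.cl X M)) = 1) : IsUnit (φX (KRR.cl X M)) := by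
  obtain ⟨x₀⟩ := (inferInstance : Nonempty ↥X)
  have hr := ExtPowSh.isFinLocFreeOfRank_rk hM x₀
  have hn := hKX.aug_cl _ M hr
  rw [h] at hn
  have hpos : φX (KRR.cl X M) ∈ PX.pos :=
    (hKX.mem_pos_iff _).2 ⟨_, M, by omega, hr, rfl⟩
  have hu := PX.isUnit_lam _ hpos
  rwa [h, Int.toNat_one, LambdaRing.LambdaOps.lam_one] at hu

set_option maxHeartbeats 4000000 in
/-- Freeness on the powers of `O(1)`. -/
theorem bijective_powers {E : X.Modules} {q : (Scheme.Modules.pullback π).obj E ⟶ O1}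
    (hE : FlatMod.IsFinLocFreeOfRank (r + 1) E) (hP : KRR.IsProjBundle π E O1 q)
    {KP : Type v} [CommRing KP] [LambdaRing.LambdaOps KP] {PP : LambdaRing.PosStructure KP}
    {φP : SGA6.Kvb P →+ KP} (hKX : KRR.IsModel X KX PX φX) (hKP : KRR.IsModel P KP PP φP)
    {g : KX →+ KP} (hg : KRR.IsPull π φX φP g) :
    Function.Bijective (fun a : Fin (r + 1) → KX => ∑ i : Fin (r + 1), g (a i) * φP (KRR.cl P O1) ^ (i : ℕ)) := by
  obtain ⟨ι, _, A, hA⟩ := exists_atlas hP hE
  have hL : PicF.IsInvertible O1 := BertiniSec.isInvertible_of_rank_one hP.invertible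
  have hRX := toRingModel hKX
  have hRP := toRingModel hKP
  -- `π_* O = O`
  have hS0 : S π O1 φX 0 = 1 := by
    have h0 : Rg A (CohB1.tensorPow O1 0) := rg_twk hA hL 0
    have hr0 : FlatMod.IsFinLocFreeOfRank 1 ((Scheme.Modules.pushforward π).obj (CohB1.tensorPow O1 0)) := by
      have := rank_push_pow hA (r := r) (π := π) (O1 := O1) 0
      rwa [Nat.choose_zero_right] at this
    have hu : IsUnit (φX (KRR.cl X ((Scheme.Modules.pushforward π).obj (CohB1.tensorPow O1 0)))) :=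
      isUnit_of_aug_one hKX (isFinLocFree_push_pb hA h0) (by rw [hKX.aug_cl 1 _ hr0]; rfl)
    haveI := epi_counit_pb hA h0
    haveI := QuotRep.isIso_of_epi_rank (KRRReg.isFinLocFreeOfRank_pullback π hr0)
      (InvEnd.isFinLocFreeOfRank_one (InvX.isInvertible_tensorPow hL 0))
      ((Scheme.Modules.pullbackPushforwardAdjunction π).counit.app (CohB1.tensorPow O1 0))
    let e0 : (Scheme.Modules.pullback π).obj ((Scheme.Modules.pushforward π).obj (CohB1.tensorPow O1 0)) ≅
        CohB1.tensorPow O1 0 := asIso ((Scheme.Modules.pullbackPushforwardAdjunction π).counit.app _)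
    have h := fk_pullback hA hL hRX (isFinLocFree_push_pb hA h0) 0
    have h1 := fk_zero (φX := φX) hA hL (rg_pullback hA hL (isFinLocFree_push_pb hA h0))
    have h2 := congrArg φX (cl_iso ((Scheme.Modules.pushforward π).mapIso e0)
      (isFinLocFree_push_pb hA (rg_pullback hA hL (isFinLocFree_push_pb hA h0))))
    rw [h1, h2] at h
    exact hu.mul_left_cancel (h.symm.trans (mul_one _).symm)
  have haug : PX.aug (tc π O1 φX O1 r) = 1 := by
    refine last_coeff r (fun m => PX.aug (tc π O1 φX O1 m)) (fun k => PX.aug (S π O1 φX k))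
      (fun k hk => by rw [S, if_pos hk, map_zero]) (fun k => ?_) fun n hn => ?_
    · rw [S, if_neg (by omega), Int.toNat_natCast, hKX.aug_cl _ _ (rank_push_pow hA k), Nat.choose_symm_add]
    · rw [S_succ hA hL hRX hS0 n hn, map_sum]
      simp
  have hu : IsUnit (tc π O1 φX O1 r) :=
    isUnit_of_aug_one hKX (isFinLocFree_push_pb hA (rg_GsP hA hL (rg_O1 hA hL) r)) haug
  have hl : IsUnit (φP (KRR.cl P O1)) := by
    have hpos : φP (KRR.cl P O1) ∈ PP.pos := (hKP.mem_pos_iff _).2 ⟨1, O1, le_rfl, hP.invertible, rfl⟩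
    have h := PP.isUnit_lam _ hpos
    rwa [hKP.aug_cl 1 O1 hP.invertible, Nat.cast_one, Int.toNat_one, LambdaRing.LambdaOps.lam_one] at h
  obtain ⟨w, hw⟩ := hl.exists_left_inv
  refine ⟨injective_powers hA hL hRX hRP hg hu, fun x => ?_⟩
  obtain ⟨a, ha⟩ := mem_span_powers hA hL hRP (pullRingHom hKP hKX hg) hg hw hu (w ^ r * x)
  refine ⟨fun i => a i.rev, ?_⟩
  set l := φP (KRR.cl P O1)
  have hx : x = l ^ r * (w ^ r * x) := by rw [← mul_assoc, ← mul_pow, mul_comm l, hw, one_pow, one_mul]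
  show ∑ i : Fin (r + 1), g (a i.rev) * l ^ (i : ℕ) = x
  rw [hx, ha, Finset.mul_sum, ← Equiv.sum_comp Fin.revPerm]
  refine Finset.sum_congr rfl fun i _ => ?_
  show g (a i.rev.rev) * l ^ ((i.rev : Fin (r + 1)) : ℕ) = l ^ r * (g (a i) * w ^ (i : ℕ))
  have hi := i.isLt
  rw [Fin.rev_rev, Fin.val_rev, show r + 1 - ((i : ℕ) + 1) = r - i by omega]
  calc g (a i) * l ^ (r - (i : ℕ)) = g (a i) * l ^ (r - (i : ℕ)) * (w * l) ^ (i : ℕ) := by rw [hw, one_pow, mul_one]
    _ = g (a i) * (l ^ (r - (i : ℕ)) * l ^ (i : ℕ)) * w ^ (i : ℕ) := by ring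
    _ = _ := by rw [← pow_add, Nat.sub_add_cancel (by omega)]; ring

end Groth.Agent.KPB
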