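import Groth.Agent.KPB.Chart
import Groth.Agent.KRRReg.PushTw
import Groth.Agent.Descends.Rank
import Groth.Agent.GGTriv.Basic

/-!
# Regular bundles on a projective bundle
-/

set_option autoImplicit false
set_option linter.style.haveILetI false
set_option linter.unusedSectionVars false
set_option backward.isDefEq.respectTransparency false
set_option backward.isDefEq.respectTransparency.types false
set_option maxHeartbeats 1000000

universe u

open CategoryTheory CategoryTheory.Limits AlgebraicGeometry TopologicalSpace Opposite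

attribute [-instance] CategoryTheory.catToReflQuiver

noncomputable section

namespace Groth.Agent.KPB

open Groth.Agent Groth.Agent.H23.PicMul KRRReg

/-- Rank is checked on an open cover. -/
theorem isFinLocFreeOfRank_of_cover {X : Scheme.{u}} {J : Type*} {Z : J → Scheme.{u}} (j : ∀ i, Z i ⟶ X)
    [∀ i, IsOpenImmersion (j i)] (hc : ∀ x, ∃ i, x ∈ Set.range (j i)) {M : X.Modules} {n : ℕ}
    (h : ∀ i, FlatMod.IsFinLocFreeOfRank n ((Scheme.Modules.pullback (j i)).obj M)) :
    FlatMod.IsFinLocFreeOfRank n M := fun x => by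
  obtain ⟨i, z, rfl⟩ := hc x
  obtain ⟨U, hz, ⟨e⟩⟩ := h i z
  let q : ((j i ''ᵁ U : X.Opens) : Scheme.{u}) ⟶ U := ((j i).isoImage U).inv
  have hq : q ≫ U.ι ≫ j i = (j i ''ᵁ U).ι := by simp [q]
  exact ⟨j i ''ᵁ U, ⟨z, hz, rfl⟩,
    ⟨(Scheme.Modules.restrictFunctorIsoPullback _).app M ≪≫ (Scheme.Modules.pullbackCongr hq.symm).app M ≪≫
      ((Scheme.Modules.pullbackComp q _).app M).symm ≪≫
      (Scheme.Modules.pullback q).mapIso (((Scheme.Modules.pullbackComp U.ι (j i)).app M).symm ≪≫
        ((Scheme.Modules.restrictFunctorIsoPullback U.ι).app _).symm ≪≫ e) ≪≫ KFlatLib.pullFreeIso q n⟩⟩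

theorem sqIso_natural {A B B' Z : Scheme.{u}} (a : A ⟶ B) (b : B ⟶ Z) (a' : A ⟶ B') (b' : B' ⟶ Z)
    (h : a ≫ b = a' ≫ b') {N M : Z.Modules} (g : N ⟶ M) :
    (Scheme.Modules.pullback a).map ((Scheme.Modules.pullback b).map g) ≫ (sqIso a b a' b' h M).hom =
      (sqIso a b a' b' h N).hom ≫ (Scheme.Modules.pullback a').map ((Scheme.Modules.pullback b').map g) := by
  show _ ≫ (_ ≫ _ ≫ _) = (_ ≫ _ ≫ _) ≫ _
  simp only [Iso.app_hom, Iso.symm_hom, Iso.app_inv, Category.assoc]
  rw [← Category.assoc]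
  erw [(Scheme.Modules.pullbackComp a b).hom.naturality g]
  rw [Category.assoc]
  congr 1
  rw [← Category.assoc, (Scheme.Modules.pullbackCongr h).hom.naturality g, Category.assoc]
  congr 1
  exact (Scheme.Modules.pullbackComp a' b').inv.naturality g

variable {X P : Scheme.{u}} {π : P ⟶ X} {O1 : P.Modules} {r : ℕ}

theorem Chart.β_natural (c : Chart π O1 r) {F G : P.Modules} (g : F ⟶ G) :
    (Scheme.Modules.pullback c.V.ι).map ((Scheme.Modules.pushforward π).map g) ≫ c.β G =
      c.β F ≫ (Scheme.Modules.pushforward (KRR.pr r c.V.toScheme)).map ((Scheme.Modules.pullback c.j).map g) := by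
  rw [Chart.β, Chart.β, ← Adjunction.homEquiv_naturality_left, ← Adjunction.homEquiv_naturality_right,
    Chart.counitHom, Chart.counitHom, Chart.α, Chart.α, ← Category.assoc, sqIso_natural, Category.assoc,
    Category.assoc, ← Functor.map_comp, ← Functor.map_comp]
  refine congrArg (fun t => (Scheme.Modules.pullbackPushforwardAdjunction (KRR.pr r c.V.toScheme)).homEquiv _ _ (_ ≫ (Scheme.Modules.pullback c.j).map t)) ?_
  exact (Scheme.Modules.pullbackPushforwardAdjunction π).counit.naturality g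

theorem syz_iso {n : ℕ} {T : Scheme.{u}} {F G : (KRR.PY n T).Modules} (e : F ≅ G) :
    Nonempty (syz F ≅ syz G) :=
  ⟨kernel.mapIso _ _ ((Scheme.Modules.pullback (KRR.pr n T)).mapIso
    ((Scheme.Modules.pushforward (KRR.pr n T)).mapIso e)) e
    ((Scheme.Modules.pullbackPushforwardAdjunction (KRR.pr n T)).counit.naturality e.hom).symm⟩

/-- The twists by powers of `O(1)`. -/
abbrev twk (O1 : P.Modules) (F : P.Modules) (k : ℕ) : P.Modules :=
  CohB1.tensorMod F (CohB1.tensorPow O1 k)

/-- The kernel of the counit of the projection. -/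
abbrev syzP (π : P ⟶ X) (F : P.Modules) : P.Modules :=
  kernel ((Scheme.Modules.pullbackPushforwardAdjunction π).counit.app F)

theorem Chart.tensor_iso (c : Chart π O1 r) (F : P.Modules) :
    Nonempty ((Scheme.Modules.pullback c.j).obj (CohB1.tensorMod F O1) ≅
      KRR.twF r c.V.toScheme 1 ((Scheme.Modules.pullback c.j).obj F)) := by
  refine cl_eq_iff.1 ?_
  show PicF.pullCl c.j (PicF.cl (CohB1.tensorMod F O1)) = _
  rw [cl_tensor, pullCl_mul, cl_twF, mul_comm]
  exact congrArg (· * _) (cl_eq_iff.2 ⟨c.oIso⟩)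

theorem Chart.twk_iso (c : Chart π O1 r) (F : P.Modules) (k : ℕ) :
    Nonempty ((Scheme.Modules.pullback c.j).obj (twk O1 F k) ≅
      KRR.twF r c.V.toScheme (k : ℤ) ((Scheme.Modules.pullback c.j).obj F)) := by
  refine cl_eq_iff.1 ?_
  show PicF.pullCl c.j (PicF.cl (twk O1 F k)) = _
  rw [cl_tensor, pullCl_mul, cl_twF, mul_comm, cl_tensorPow, pullCl_pow]
  exact congrArg (· * _) ((congrArg (· ^ k) (cl_eq_iff.2 ⟨c.oIso⟩)).trans (cl_O_pow _ k).symm)

variable {ι : Type*} (A : ι → Chart π O1 r)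

/-- Bundles regular on each chart. -/
def Rg (F : P.Modules) : Prop :=
  FlatMod.IsFinLocFree F ∧
    ∀ i, KRR.IsRegSheaf r (A i).V.toScheme ((Scheme.Modules.pullback (A i).j).obj F)

variable {A}

theorem rg_iso {F G : P.Modules} (e : F ≅ G) (h : Rg A F) : Rg A G :=
  ⟨isFinLocFree_iso e h.1, fun i => isRegSheaf_of_iso r _ ((Scheme.Modules.pullback (A i).j).mapIso e) (h.2 i)⟩

variable (hA : ∀ x : X, ∃ i, x ∈ (A i).V)

include hA

theorem cover_base (x : X) : ∃ i, x ∈ Set.range (A i).V.ι := by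
  obtain ⟨i, hi⟩ := hA x
  exact ⟨i, ⟨x, hi⟩, rfl⟩

theorem cover_top (y : P) : ∃ i, y ∈ Set.range (A i).j := by
  obtain ⟨i, hi⟩ := hA (π y)
  exact ⟨i, (A i).le_range hi⟩

theorem rg_twk (hL : PicF.IsInvertible O1) (k : ℕ) : Rg A (CohB1.tensorPow O1 k) := by
  refine ⟨KRRReg.isFinLocFree_tensorPow hL k, fun i => ?_⟩
  refine isRegSheaf_of_iso r _ (cl_eq_iff.1 ?_).some (isRegSheaf_twF_structure (n := r) (A i).V.toScheme k)
  show _ = PicF.pullCl (A i).j (PicF.cl (CohB1.tensorPow O1 k))
  rw [cl_tensorPow, pullCl_pow, cl_twF]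
  refine Eq.trans ?_ ((congrArg (· ^ k) (cl_eq_iff.2 ⟨(A i).oIso⟩)).trans (cl_O_pow _ k).symm).symm
  exact mul_one _

theorem rg_tensor {F : P.Modules} (hL : PicF.IsInvertible O1) (hF : Rg A F) (k : ℕ) : Rg A (twk O1 F k) :=
  ⟨KFlatLib.isFinLocFree_tensor hF.1 (KRRReg.isFinLocFree_tensorPow hL k), fun i =>
    isRegSheaf_of_iso r _ ((A i).twk_iso F k).some.symm
      (isRegSheaf_twF (QCoh.isQCoh_of_isFinLocFree (KFlatLib.isFinLocFree_pullback _ hF.1)) (hF.2 i) k)⟩

theorem epi_counit_pb {F : P.Modules} (hF : Rg A F) :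
    Epi ((Scheme.Modules.pullbackPushforwardAdjunction π).counit.app F) := by
  refine Preadditive.epi_of_cokernel_zero ((isZero_of_pullback_cover (fun i => (A i).j) (cover_top hA)
    fun i => ?_).eq_of_tgt _ _)
  haveI := epi_counit (QCoh.isQCoh_of_isFinLocFree (KFlatLib.isFinLocFree_pullback (A i).j hF.1)) (hF.2 i)
  haveI : Epi ((Scheme.Modules.pullback (A i).j).map
      ((Scheme.Modules.pullbackPushforwardAdjunction π).counit.app F)) := by
    rw [(A i).pullback_counit]
    infer_instance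
  exact (isZero_cokernel_of_epi _).of_iso (PreservesCokernel.iso (Scheme.Modules.pullback (A i).j) _)

theorem shortExact_syzP {F : P.Modules} (hF : Rg A F) :
    (ShortComplex.mk (kernel.ι ((Scheme.Modules.pullbackPushforwardAdjunction π).counit.app F))
      ((Scheme.Modules.pullbackPushforwardAdjunction π).counit.app F) (kernel.condition _)).ShortExact :=
  { exact := ShortComplex.exact_kernel _
    mono_f := inferInstance
    epi_g := epi_counit_pb hA hF }

variable [IsNoetherian X]

omit hA in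
theorem isNoetherian_chart (c : Chart π O1 r) : IsNoetherian c.V.toScheme where
  toIsLocallyNoetherian := LocallyOfFiniteType.isLocallyNoetherian c.V.ι
  toCompactSpace := isCompact_iff_compactSpace.1 c.aff.isCompact

theorem isFinLocFree_push_pb {F : P.Modules} (hF : Rg A F) :
    FlatMod.IsFinLocFree ((Scheme.Modules.pushforward π).obj F) :=
  Descends.isFinLocFree_of_cover (fun i => (A i).V.ι) (cover_base hA) fun i => by
    haveI := isNoetherian_chart (A i)
    have h := KFlatLib.isFinLocFree_pullback (A i).j hF.1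
    exact isFinLocFree_iso ((A i).pushIso F).symm
      (isFinLocFree_push (isCoh_of_finLocFree h) (isFlatOver_finLocFree h) (hF.2 i))

theorem shortExact_push_pb [IsNoetherian P] {S : ShortComplex P.Modules} (hS : S.ShortExact) (h₁ : Rg A S.X₁)
    (h₂ : Rg A S.X₂) (h₃ : Rg A S.X₃) : (S.map (Scheme.Modules.pushforward π)).ShortExact := by
  haveI := hS.mono_f
  haveI : Mono ((Scheme.Modules.pushforward π).map S.f) := inferInstance
  haveI : Epi ((Scheme.Modules.pushforward π).map S.g) := by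
    refine Preadditive.epi_of_cokernel_zero ((isZero_of_pullback_cover (fun i => (A i).V.ι) (cover_base hA)
      fun i => ?_).eq_of_tgt _ _)
    haveI := isNoetherian_chart (A i)
    have hj : (S.map (Scheme.Modules.pullback (A i).j)).ShortExact := by
      haveI := preservesFiniteLimits_pullback (A i).j
      exact hS.map_of_exact _
    have h := (shortExact_push_rb hj ⟨KFlatLib.isFinLocFree_pullback _ h₁.1, h₁.2 i⟩
      ⟨KFlatLib.isFinLocFree_pullback _ h₂.1, h₂.2 i⟩ ⟨KFlatLib.isFinLocFree_pullback _ h₃.1, h₃.2 i⟩).epi_g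
    haveI : Epi ((Scheme.Modules.pushforward (KRR.pr r (A i).V.toScheme)).map
      ((Scheme.Modules.pullback (A i).j).map S.g)) := h
    haveI : Epi ((Scheme.Modules.pullback (A i).V.ι).map ((Scheme.Modules.pushforward π).map S.g)) := by
      haveI : Epi ((Scheme.Modules.pullback (A i).V.ι).map ((Scheme.Modules.pushforward π).map S.g) ≫ (A i).β S.X₃) := by
        rw [(A i).β_natural]
        infer_instance
      rw [← Category.comp_id ((Scheme.Modules.pullback (A i).V.ι).map ((Scheme.Modules.pushforward π).map S.g)),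
        ← IsIso.hom_inv_id ((A i).β S.X₃), ← Category.assoc]
      infer_instance
    exact (isZero_cokernel_of_epi _).of_iso (PreservesCokernel.iso (Scheme.Modules.pullback (A i).V.ι) _)
  haveI : PreservesFiniteLimits (Scheme.Modules.pushforward π) := QCoh.preservesFiniteLimits_push _
  exact ShortComplex.ShortExact.mk' (hS.exact.map_of_mono_of_preservesKernel _ inferInstance inferInstance) ‹_› ‹_›

variable [IsNoetherian P]

theorem isFinLocFree_syzP {F : P.Modules} (hF : Rg A F) : FlatMod.IsFinLocFree (syzP π F) :=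
  KZ.LFRes.pdlt_one_iff.1 (KZ.LFRes.PDLT.kernel_of (shortExact_syzP hA hF)
    (KZ.LFRes.pdlt_one_iff.2 (KFlatLib.isFinLocFree_pullback _ (isFinLocFree_push_pb hA hF)))
    ((KZ.LFRes.pdlt_one_iff.2 hF.1).mono (Nat.le_succ _)))

theorem rg_syzP (hL : PicF.IsInvertible O1) {F : P.Modules} (hF : Rg A F) :
    Rg A (CohB1.tensorMod (syzP π F) O1) := by
  refine ⟨KFlatLib.isFinLocFree_tensor (isFinLocFree_syzP hA hF)
    (H23.PullPush.isFinLocFree_of_isInvertible hL), fun i => ?_⟩
  have hq := QCoh.isQCoh_of_isFinLocFree (KFlatLib.isFinLocFree_pullback (A i).j hF.1)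
  exact isRegSheaf_of_iso r _ (((A i).tensor_iso _).some ≪≫
    (DCoh.tensorBi.obj (Twist.twistOver r (A i).V.toScheme 1)).mapIso ((A i).syzIso F)).symm
    (isRegSheaf_syz hq (hF.2 i))

omit hA in
/-- The iterated syzygies. -/
def GsP (π : P ⟶ X) (O1 : P.Modules) (F : P.Modules) : ℕ → P.Modules
  | 0 => F
  | k + 1 => CohB1.tensorMod (syzP π (GsP π O1 F k)) O1

theorem rg_GsP (hL : PicF.IsInvertible O1) {F : P.Modules} (hF : Rg A F) : ∀ k, Rg A (GsP π O1 F k)
  | 0 => hF
  | k + 1 => rg_syzP hA hL (rg_GsP hL hF k)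

theorem isZero_syzP_last (hL : PicF.IsInvertible O1) {F : P.Modules} (hF : Rg A F) :
    IsZero (syzP π (GsP π O1 F r)) := by
  refine isZero_of_pullback_cover (fun i => (A i).j) (cover_top hA) fun i => ?_
  have key : ∀ k, Nonempty ((Scheme.Modules.pullback (A i).j).obj (GsP π O1 F k) ≅
      Gs ((Scheme.Modules.pullback (A i).j).obj F) k) := by
    intro k
    induction k with
    | zero => exact ⟨Iso.refl _⟩
    | succ k ih =>
      exact ⟨((A i).tensor_iso _).some ≪≫ (DCoh.tensorBi.obj (Twist.twistOver r (A i).V.toScheme 1)).mapIso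
        ((A i).syzIso _ ≪≫ (syz_iso ih.some).some)⟩
  exact (isZero_syz_last (QCoh.isQCoh_of_isFinLocFree (KFlatLib.isFinLocFree_pullback (A i).j hF.1)) (hF.2 i)).of_iso
    ((A i).syzIso _ ≪≫ (syz_iso (key r).some).some)

omit [AlgebraicGeometry.IsNoetherian P] in
theorem exists_rg_bound [Finite ι] (hL : PicF.IsInvertible O1) {F : P.Modules} (hF : FlatMod.IsFinLocFree F) :
    ∃ m : ℕ, ∀ k, m ≤ k → Rg A (twk O1 F k) := by
  classical
  cases nonempty_fintype ι
  have h : ∀ i, ∃ m : ℕ, ∀ k : ℕ, m ≤ k →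
      KRR.IsRegSheaf r (A i).V.toScheme ((Scheme.Modules.pullback (A i).j).obj (twk O1 F k)) := fun i => by
    haveI := isNoetherian_chart (A i)
    obtain ⟨m, hm0, hm⟩ := exists_regular_bound (KFlatLib.isFinLocFree_pullback (A i).j hF)
    refine ⟨m.toNat, fun k hk => isRegSheaf_of_iso r _ ?_ (hm (k : ℤ) (by omega)).2⟩
    exact (tg_iso _ (k : ℤ)).some ≪≫ ((A i).twk_iso F k).some.symm
  choose m hm using h
  exact ⟨Finset.univ.sup m, fun k hk => ⟨KFlatLib.isFinLocFree_tensor hF (KRRReg.isFinLocFree_tensorPow hL k),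
    fun i => hm i k ((Finset.le_sup (Finset.mem_univ i)).trans hk)⟩⟩

omit [AlgebraicGeometry.IsNoetherian P] in
theorem rank_push_pow (k : ℕ) :
    FlatMod.IsFinLocFreeOfRank (Nat.choose (r + k) k)
      ((Scheme.Modules.pushforward π).obj (CohB1.tensorPow O1 k)) :=
  isFinLocFreeOfRank_of_cover (fun i => (A i).V.ι) (cover_base hA) fun i => by
    haveI := isNoetherian_chart (A i)
    obtain ⟨e⟩ := nonempty_push_twF_iso (n := r) (A i).V.toScheme k
    have hc : Nonempty ((Scheme.Modules.pullback (A i).j).obj (CohB1.tensorPow O1 k) ≅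
        KRR.twF r (A i).V.toScheme (k : ℤ) (Coh.structureModule _)) := by
      refine cl_eq_iff.1 ?_
      show PicF.pullCl (A i).j (PicF.cl (CohB1.tensorPow O1 k)) = _
      rw [cl_tensorPow, pullCl_pow, cl_twF]
      refine ((congrArg (· ^ k) (cl_eq_iff.2 ⟨(A i).oIso⟩)).trans (cl_O_pow _ k).symm).trans ?_
      exact (mul_one _).symm
    exact (ConsPropLib.isFinLocFreeOfRank_iso
      ((A i).pushIso _ ≪≫ (Scheme.Modules.pushforward _).mapIso hc.some ≪≫ e)).2
      (GGTriv.isFinLocFreeOfRank_freeMod _)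

omit hA in
set_option maxHeartbeats 4000000 in
theorem push_tensor_iso {G : P.Modules} {T : X.Modules} (hT : FlatMod.IsFinLocFree T) :
    Nonempty ((Scheme.Modules.pushforward π).obj (CohB1.tensorMod ((Scheme.Modules.pullback π).obj T) G) ≅
      CohB1.tensorMod T ((Scheme.Modules.pushforward π).obj G)) := by
  haveI := SpObjSS.enoughInjectives_of_hasInjectiveResolutions (C := P.Modules)
  haveI := QCoh.preservesFiniteLimits_push π
  obtain ⟨c⟩ := KFlatLib.nonempty_rpush_tensor_finLocFree π G T hT 0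
  let e := (Scheme.Modules.pushforward π).rightDerivedZeroIsoSelf
  exact ⟨(e.app _).symm ≪≫ c.symm ≪≫ (DCoh.tensorBi.obj T).mapIso (e.app G)⟩

end Groth.Agent.KPB
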