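import Groth.Agent.KPB.Filtration

/-!
# Splitting with compatible γ-filtrations
-/

set_option autoImplicit false
set_option linter.style.haveILetI false
set_option linter.unusedSectionVars false
set_option backward.isDefEq.respectTransparency false
set_option backward.isDefEq.respectTransparency.types false
set_option maxHeartbeats 1000000

universe v u

open CategoryTheory CategoryTheory.Limits AlgebraicGeometry

attribute [-instance] CategoryTheory.catToReflQuiver

noncomputable section

namespace Groth.Agent.KPB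

open Groth.Agent

theorem exists_splitting_filtration (X : Scheme.{u}) [IsNoetherian X] [ConnectedSpace ↥X]
    (K : Type v) [CommRing K] [LambdaRing.LambdaOps K] (P : LambdaRing.PosStructure K) (φ : SGA6.Kvb X →+ K)
    (hK : KRR.IsModel X K P φ) (m : ℕ) (E : X.Modules) (hE : FlatMod.IsFinLocFreeOfRank m E) :
    ∃ (X' : Scheme.{u}) (_ : IsNoetherian X') (_ : ConnectedSpace ↥X') (f : X' ⟶ X)
      (K' : Type (u + 1)) (_ : CommRing K') (_ : LambdaRing.LambdaOps K') (P' : LambdaRing.PosStructure K')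
      (φ' : SGA6.Kvb X' →+ K') (_ : KRR.IsModel X' K' P' φ') (g : K →+ K') (_ : KRR.IsPull f φ φ' g),
      Function.Injective g ∧ (∀ k : ℕ, (LambdaRing.gammaFiltration P' k).comap g = LambdaRing.gammaFiltration P k) ∧
      ∃ L : Fin m → X'.Modules, (∀ j, FlatMod.IsFinLocFreeOfRank 1 (L j)) ∧
        g (φ (KRR.cl X E)) = ∑ j, φ' (KRR.cl X' (L j)) := by
  obtain ⟨K₀, _, _, P₀, φ₀, hK₀⟩ := ExtPowSh.exists_model (X := X)
  let a : K →+ K₀ := φ₀.comp (AddEquiv.ofBijective φ hK.bijective).symm.toAddMonoidHom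
  let b : K₀ →+ K := φ.comp (AddEquiv.ofBijective φ₀ hK₀.bijective).symm.toAddMonoidHom
  have ha : KRR.IsPull (𝟙 X) φ φ₀ a := fun F hF => by
    show φ₀ ((AddEquiv.ofBijective φ hK.bijective).symm ((AddEquiv.ofBijective φ hK.bijective) (KRR.cl X F))) = _
    rw [AddEquiv.symm_apply_apply]
    exact congrArg φ₀ (KRRReg.cl_iso ((Scheme.Modules.pullbackId X).app F).symm hF)
  have hb : KRR.IsPull (𝟙 X) φ₀ φ b := fun F hF => by
    show φ ((AddEquiv.ofBijective φ₀ hK₀.bijective).symm ((AddEquiv.ofBijective φ₀ hK₀.bijective) (KRR.cl X F))) = _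
    rw [AddEquiv.symm_apply_apply]
    exact congrArg φ (KRRReg.cl_iso ((Scheme.Modules.pullbackId X).app F).symm hF)
  have hba : ∀ x, b (a x) = x := fun x => by
    show φ ((AddEquiv.ofBijective φ₀ hK₀.bijective).symm ((AddEquiv.ofBijective φ₀ hK₀.bijective)
      ((AddEquiv.ofBijective φ hK.bijective).symm x))) = x
    rw [AddEquiv.symm_apply_apply]
    exact (AddEquiv.ofBijective φ hK.bijective).apply_symm_apply x
  have hafil : ∀ k, (LambdaRing.gammaFiltration P₀ k).comap a = LambdaRing.gammaFiltration P k := fun k => by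
    refine le_antisymm (fun x hx => ?_) fun x hx =>
      KRRReg.map_gammaFiltration (KRRReg.pullRingHom hK₀ hK ha) (KRRReg.pull_lam hK₀ hK ha)
        (KRRReg.pull_aug hK₀ hK ha) k hx
    have h := KRRReg.map_gammaFiltration (KRRReg.pullRingHom hK hK₀ hb) (KRRReg.pull_lam hK hK₀ hb)
      (KRRReg.pull_aug hK hK₀ hb) k (show a x ∈ _ from hx)
    rwa [show KRRReg.pullRingHom hK hK₀ hb (a x) = x from hba x] at h
  obtain ⟨X', hN, hC, f, K', _, _, P', φ', hK', g, hg, hinj, hfil, L, hL, hsum⟩ :=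
    exists_split_bundle
      (fun _ _ _ _ P _ _ _ _ P' g => ∀ k, (LambdaRing.gammaFiltration P' k).comap g = LambdaRing.gammaFiltration P k)
      (fun _ _ _ _ _ _ _ _ _ _ => rfl)
      (fun X _ _ K _ _ PK φ hK Q _ _ KP _ _ PP φP hKP r E hE π O1 q hP g hg X' K' _ _ P' g' hQ k => by
        rw [← AddSubgroup.comap_comap, hQ k]
        exact gammaFiltration_comap hE hP hK hKP hg k)
      m X K₀ P₀ φ₀ hK₀ E hE
  have hcl : ∀ F, a (φ (KRR.cl X F)) = φ₀ (KRR.cl X F) := fun F =>
    congrArg φ₀ ((AddEquiv.ofBijective φ hK.bijective).symm_apply_apply (KRR.cl X F))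
  refine ⟨X', hN, hC, f, K', inferInstance, inferInstance, P', φ', hK', g.comp a, fun F hF => ?_,
    hinj.comp (Function.LeftInverse.injective hba), fun k => ?_, L, hL, ?_⟩
  · show g (a (φ (KRR.cl X F))) = _
    rw [hcl F, hg F hF]
  · rw [← AddSubgroup.comap_comap, hfil k, hafil k]
  · show g (a (φ (KRR.cl X E))) = _
    rw [hcl, hsum]

end Groth.Agent.KPB
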